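import Cfsg.Prelude.Def_Transfer
import Cfsg.Agent.Lib.PGroup.Basic
import Cfsg.Agent.Lib.PGroup.AbelianMax
import Mathlib.Tactic.Group
import Mathlib.Tactic.Ring

/-!
Order and basic power structure of extraspecial p-groups.
-/

set_option autoImplicit false

namespace CfsgLib.Extraspecial

open scoped commutatorElement

variable {Q : Type*} [Group Q] {p : ℕ} [hp : Fact p.Prime]

theorem commutatorElement_mem_center (h : Cfsg.IsExtraspecial p Q) (x y : Q) :
    ⁅x, y⁆ ∈ Subgroup.center Q := by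
  rw [← h.1.2.2]
  exact Subgroup.commutator_mem_commutator (Subgroup.mem_top _) (Subgroup.mem_top _)

theorem not_forall_commute (h : Cfsg.IsExtraspecial p Q) : ∃ x y : Q, ⁅x, y⁆ ≠ 1 := by
  by_contra hc
  push Not at hc
  have h1 : commutator Q = ⊥ := by
    rw [eq_bot_iff]
    exact Subgroup.commutator_le.mpr fun x _ y _ => Subgroup.mem_bot.mpr (hc x y)
  have h2 := h.2
  rw [← h.1.2.2, h1, Subgroup.card_bot] at h2
  exact hp.out.ne_one h2.symm

/-- The commutator with a fixed element, as a homomorphism into the centre. -/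
def commCenterHom (h : Cfsg.IsExtraspecial p Q) (x : Q) : Q →* Subgroup.center Q where
  toFun y := ⟨⁅x, y⁆, commutatorElement_mem_center h x y⟩
  map_one' := Subtype.ext (commutatorElement_one_right x)
  map_mul' := fun y y' => by
    apply Subtype.ext
    show ⁅x, y * y'⁆ = ⁅x, y⁆ * ⁅x, y'⁆
    have h2 : y * ⁅x, y'⁆ = ⁅x, y'⁆ * y :=
      Subgroup.mem_center_iff.mp (commutatorElement_mem_center h x y') y
    have h3 : ⁅x, y * y'⁆ = ⁅x, y⁆ * (y * ⁅x, y'⁆) * y⁻¹ := by
      simp only [commutatorElement_def]; group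
    rw [h3, h2, ← mul_assoc, mul_inv_cancel_right]

theorem ne_one_isPow (h : Cfsg.IsExtraspecial p Q) {z : Subgroup.center Q} (hz : z ≠ 1)
    (w : Subgroup.center Q) : ∃ k : ℤ, z ^ k = w := by
  have hcard : Nat.card (Subgroup.center Q) = p := h.2
  exact Subgroup.mem_zpowers_iff.mp
    (mem_zpowers_of_prime_card (p := p) hcard hz : w ∈ Subgroup.zpowers z)

theorem exists_card_aux [Finite Q] (h : Cfsg.IsExtraspecial p Q) :
    ∀ (d : ℕ) (H : Subgroup Q), Nat.card H ≤ d → Subgroup.center Q ≤ H →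
      H ⊓ Subgroup.centralizer (H : Set Q) ≤ Subgroup.center Q →
      ∃ k : ℕ, Nat.card H = p ^ (2 * k + 1) := by
  intro d
  induction d with
  | zero =>
    intro H hd
    have := Nat.card_pos (α := H)
    omega
  | succ d ih =>
  intro H hd hZH hH
  by_cases hHZ : H ≤ Subgroup.center Q
  · exact ⟨0, by rw [le_antisymm hHZ hZH, h.2]; ring⟩
  obtain ⟨x, hx, hxZ⟩ := SetLike.not_le_iff_exists.mp hHZ
  obtain ⟨y, hy, hxy⟩ : ∃ y ∈ H, ⁅x, y⁆ ≠ 1 := by
    by_contra hc
    push Not at hc
    refine hxZ (hH ⟨hx, Subgroup.mem_centralizer_iff.mpr fun y hy => ?_⟩)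
    exact ((commutatorElement_eq_one_iff_mul_comm).mp (hc y hy)).symm
  let f : H →* Subgroup.center Q × Subgroup.center Q :=
    ((commCenterHom h x).prod (commCenterHom h y)).comp H.subtype
  have hf : Function.Surjective f := by
    rintro ⟨a, b⟩
    have h1 : commCenterHom h x y ≠ 1 := fun e => hxy (congrArg Subtype.val e)
    have h2 : commCenterHom h y x ≠ 1 := fun e => hxy (by
      have e' : ⁅y, x⁆ = 1 := congrArg Subtype.val e
      rw [← commutatorElement_inv, e', inv_one])
    obtain ⟨i, hi⟩ := ne_one_isPow h h1 a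
    obtain ⟨j, hj⟩ := ne_one_isPow h h2 b
    have hxx : commCenterHom h x x = 1 := Subtype.ext (commutatorElement_self x)
    have hyy : commCenterHom h y y = 1 := Subtype.ext (commutatorElement_self y)
    refine ⟨⟨y, hy⟩ ^ i * ⟨x, hx⟩ ^ j, ?_⟩
    simp [f, map_mul, map_zpow, hi, hj, hxx, hyy]
  let K : Subgroup Q := f.ker.map H.subtype
  have hK : ∀ g, g ∈ K ↔ g ∈ H ∧ ⁅x, g⁆ = 1 ∧ ⁅y, g⁆ = 1 := by
    intro g
    constructor
    · rintro ⟨g, hg, rfl⟩
      have := MonoidHom.mem_ker.mp hg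
      exact ⟨g.2, congrArg (fun t => ((t.1 : Subgroup.center Q) : Q)) this,
        congrArg (fun t => ((t.2 : Subgroup.center Q) : Q)) this⟩
    · rintro ⟨hg, h1, h2⟩
      exact ⟨⟨g, hg⟩, MonoidHom.mem_ker.mpr (Prod.ext (Subtype.ext h1) (Subtype.ext h2)), rfl⟩
  have hKH : K ≤ H := fun g hg => ((hK g).mp hg).1
  have hZK : Subgroup.center Q ≤ K := fun z hz =>
    (hK z).mpr ⟨hZH hz, commutatorElement_eq_one_iff_mul_comm.mpr (Subgroup.mem_center_iff.mp hz x),
      commutatorElement_eq_one_iff_mul_comm.mpr (Subgroup.mem_center_iff.mp hz y)⟩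
  have hcard : Nat.card H = p ^ 2 * Nat.card K := by
    rw [Subgroup.card_eq_card_quotient_mul_card_subgroup f.ker,
      Nat.card_congr (QuotientGroup.quotientKerEquivOfSurjective f hf).toEquiv, Nat.card_prod, h.2,
      Nat.card_congr (Subgroup.equivMapOfInjective f.ker _ H.subtype_injective).toEquiv]
    ring
  have hKlt : Nat.card K ≤ d := by
    have h2 : 4 ≤ p ^ 2 := by nlinarith [hp.out.two_le]
    have h3 : 0 < Nat.card K := Nat.card_pos
    nlinarith
  have hKc : K ⊓ Subgroup.centralizer (K : Set Q) ≤ Subgroup.center Q := by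
    rintro k ⟨hk, hkc⟩
    obtain ⟨hkH, hkx, hky⟩ := (hK k).mp hk
    refine hH ⟨hkH, Subgroup.mem_centralizer_iff.mpr fun g hg => ?_⟩
    -- write `g` as an element of `K` times a product of powers of `x` and `y`
    have h1 : commCenterHom h x y ≠ 1 := fun e => hxy (congrArg Subtype.val e)
    have h2 : commCenterHom h y x ≠ 1 := fun e => hxy (by
      have e' : ⁅y, x⁆ = 1 := congrArg Subtype.val e
      rw [← commutatorElement_inv, e', inv_one])
    obtain ⟨i, hi⟩ := ne_one_isPow h h1 (commCenterHom h x g)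
    obtain ⟨j, hj⟩ := ne_one_isPow h h2 (commCenterHom h y g)
    have hxx : commCenterHom h x x = 1 := Subtype.ext (commutatorElement_self x)
    have hyy : commCenterHom h y y = 1 := Subtype.ext (commutatorElement_self y)
    have hrest : g * (y ^ i * x ^ j)⁻¹ ∈ K := by
      refine (hK _).mpr ⟨mul_mem hg (inv_mem (mul_mem (zpow_mem hy i) (zpow_mem hx j))), ?_, ?_⟩
      · refine (congrArg Subtype.val (show commCenterHom h x (g * (y ^ i * x ^ j)⁻¹) = 1 from ?_) :)
        simp [map_mul, map_zpow, map_inv, hi, hxx]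
      · refine (congrArg Subtype.val (show commCenterHom h y (g * (y ^ i * x ^ j)⁻¹) = 1 from ?_) :)
        simp [map_mul, map_zpow, map_inv, hj, hyy]
    have c1 : Commute k (g * (y ^ i * x ^ j)⁻¹) :=
      (Subgroup.mem_centralizer_iff.mp hkc _ hrest).symm
    have c2 : Commute k (y ^ i * x ^ j) :=
      (Commute.zpow_right (commutatorElement_eq_one_iff_mul_comm.mp hky).symm i).mul_right
        (Commute.zpow_right (commutatorElement_eq_one_iff_mul_comm.mp hkx).symm j)
    have := c1.mul_right c2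
    rw [inv_mul_cancel_right] at this
    exact this.symm
  obtain ⟨k, hk⟩ := ih K hKlt hZK hKc
  exact ⟨k + 1, by rw [hcard, hk, ← pow_add]; ring_nf⟩

/-- An extraspecial group has order `p ^ (1 + 2n)` with `n ≥ 1`. -/
theorem exists_card [Finite Q] (h : Cfsg.IsExtraspecial p Q) :
    ∃ n : ℕ, 1 ≤ n ∧ Nat.card Q = p ^ (1 + 2 * n) := by
  obtain ⟨k, hk⟩ := exists_card_aux h (Nat.card Q) ⊤ (by rw [Subgroup.card_top]) le_top (by
    rw [Subgroup.coe_top, Subgroup.centralizer_univ, top_inf_eq])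
  rw [Subgroup.card_top] at hk
  refine ⟨k, Nat.one_le_iff_ne_zero.mpr fun hk0 => ?_, by rw [hk, add_comm]⟩
  subst hk0
  obtain ⟨x, y, hxy⟩ := not_forall_commute h
  have hc : Subgroup.center Q = ⊤ := Subgroup.eq_top_of_card_eq _ (by rw [h.2, hk]; ring)
  exact hxy (commutatorElement_eq_one_iff_mul_comm.mpr
    (Subgroup.mem_center_iff.mp (hc ▸ Subgroup.mem_top y) x))

theorem pow_mem_center [Finite Q] (h : Cfsg.IsExtraspecial p Q) (x : Q) :
    x ^ p ∈ Subgroup.center Q := by
  rw [← h.1.2.1]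
  exact CfsgLib.PGroup.pow_mem_frattini h.1.1 x

theorem pow_sq_eq_one [Finite Q] (h : Cfsg.IsExtraspecial p Q) (x : Q) : x ^ p ^ 2 = 1 := by
  have h1 : (⟨x ^ p, pow_mem_center h x⟩ : Subgroup.center Q) ^ p = 1 := by
    conv_lhs => arg 2; rw [← h.2]
    exact pow_card_eq_one'
  have := congrArg Subtype.val h1
  rw [sq, pow_mul]
  simpa using this

/-- An extraspecial group with an abelian subgroup of index `p` has order `p ^ 3`. -/
theorem card_eq_of_abelian_index [Finite Q] (h : Cfsg.IsExtraspecial p Q) (A : Subgroup Q)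
    (hab : ∀ a ∈ A, ∀ b ∈ A, a * b = b * a) (hidx : A.index = p) : Nat.card Q = p ^ 3 := by
  have hnil := h.1.1.isNilpotent
  have hAn : A.Normal := Subgroup.NormalizerCondition.normal_of_coatom A (Group.normalizerCondition_of_isNilpotent (G := Q))
    ⟨fun e => hp.out.ne_one (by rw [← hidx, e, Subgroup.index_top]), fun K hK => by
      have h1 : K.index ∣ p := hidx ▸ Subgroup.index_dvd_of_le hK.le
      rcases (Nat.dvd_prime hp.out).mp h1 with h2 | h2
      · exact Subgroup.index_eq_one.mp h2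
      · have h3 := Subgroup.index_strictAnti hK
        omega⟩
  have hna : Subgroup.center Q ≠ ⊤ := fun e => by
    obtain ⟨x, y, hxy⟩ := not_forall_commute h
    exact hxy (commutatorElement_eq_one_iff_mul_comm.mpr
      (Subgroup.mem_center_iff.mp (e ▸ Subgroup.mem_top y) x))
  have hA := CfsgLib.PGroup.AbelianMax.card_eq_card_commutator_mul_card_center A hab (hidx ▸ hp.out) hna
  rw [h.1.2.2, h.2] at hA
  rw [← A.index_mul_card, hidx, hA]
  ring

end CfsgLib.Extraspecial
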