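import Cfsg.Prelude.Def_Transfer
import Cfsg.Agent.Lib.Extraspecial.Card
import Cfsg.Agent.Lib.F2Quad.Basic
import Cfsg.Agent.Lib.Forms.Classify

/-! An extraspecial 2-group as a quadratic space over the field with two elements. -/

set_option autoImplicit false

namespace CfsgLib.Extraspecial

open scoped commutatorElement
open CfsgLib.F2Quad (Vec IsQF pol)

variable {E : Type*} [Group E]

/-- The quotient by the centre of an extraspecial 2-group, in standard coordinates. -/
structure Coords (E : Type*) [Group E] (n : ℕ) where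
  /-- The projection. -/
  proj : E → Vec n
  proj_surj : Function.Surjective proj
  proj_mul : ∀ x y, proj (x * y) = proj x + proj y
  proj_eq_zero : ∀ x, proj x = 0 ↔ x ∈ Subgroup.center E
  /-- The square map. -/
  form : Vec n → ZMod 2
  form_qf : IsQF n form
  sq_eq_one : ∀ x : E, x * x = 1 ↔ form (proj x) = 0
  comm_eq_one : ∀ x y : E, ⁅x, y⁆ = 1 ↔ pol n (proj x) (proj y) = 0
  centre_card : Nat.card (Subgroup.center E) = 2

/-- The bit of a central element. -/
noncomputable def bit (c : E) : ZMod 2 := by classical exact if c = 1 then 0 else 1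

theorem bit_eq_zero (c : E) : bit c = 0 ↔ c = 1 := by
  unfold bit
  split_ifs with h <;> simp [h]

theorem bit_one : bit (1 : E) = 0 := (bit_eq_zero 1).mpr rfl

theorem eq_of_centre_card (h : Nat.card (Subgroup.center E) = 2) {a b : E} (ha : a ∈ Subgroup.center E)
    (hb : b ∈ Subgroup.center E) (hab : a = 1 ↔ b = 1) : a = b := by
  by_cases ha1 : a = 1
  · rw [ha1, hab.mp ha1]
  · obtain ⟨u, v, _, huv⟩ := Nat.card_eq_two_iff.mp h
    by_contra hne
    have key : ∀ c : Subgroup.center E, c = u ∨ c = v := fun c => by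
      have : c ∈ ({u, v} : Set (Subgroup.center E)) := huv ▸ Set.mem_univ c
      simpa using this
    have h1 : (⟨a, ha⟩ : Subgroup.center E) ≠ ⟨b, hb⟩ := fun e => hne (congrArg Subtype.val e)
    have h2 : (⟨a, ha⟩ : Subgroup.center E) ≠ 1 := fun e => ha1 (congrArg Subtype.val e)
    have h3 : (⟨b, hb⟩ : Subgroup.center E) ≠ 1 := fun e => ha1 (hab.mpr (congrArg Subtype.val e))
    rcases key ⟨a, ha⟩ with e1 | e1 <;> rcases key ⟨b, hb⟩ with e2 | e2 <;> rcases key 1 with e3 | e3 <;>
      simp_all

theorem bit_mul (h : Nat.card (Subgroup.center E) = 2) {a b : E} (ha : a ∈ Subgroup.center E)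
    (hb : b ∈ Subgroup.center E) : bit (a * b) = bit a + bit b := by
  by_cases ha1 : a = 1
  · rw [ha1, one_mul, bit_one, zero_add]
  by_cases hb1 : b = 1
  · rw [hb1, mul_one, bit_one, add_zero]
  have h1 : bit a = 1 := by simp [bit, ha1]
  have h2 : bit b = 1 := by simp [bit, hb1]
  rw [h1, h2, CharTwo.add_self_eq_zero, bit_eq_zero]
  have e1 : a = b := eq_of_centre_card h ha hb (by simp [ha1, hb1])
  have e2 : b⁻¹ = b := eq_of_centre_card h (inv_mem hb) hb (by simp [hb1])
  rw [e1]
  nth_rw 2 [← e2]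
  rw [mul_inv_cancel]

theorem exists_coords [Finite E] (hE : Cfsg.IsExtraspecial 2 E) (n : ℕ)
    (hcard : Nat.card E = 2 ^ (2 * n + 1)) : Nonempty (Coords E n) := by
  haveI : Fact (Nat.Prime 2) := ⟨Nat.prime_two⟩
  have hc2 := hE.2
  have hcm : ∀ x y : E, ⁅x, y⁆ ∈ Subgroup.center E := commutatorElement_mem_center hE
  have hsm : ∀ x : E, x * x ∈ Subgroup.center E := fun x => pow_two x ▸ pow_mem_center hE x
  let W := Additive (Abelianization E)
  have hker : ∀ x : E, Abelianization.of x = 1 ↔ x ∈ Subgroup.center E := fun x => by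
    rw [← hE.1.2.2]; exact QuotientGroup.eq_one_iff x
  have htwo : ∀ w : W, 2 • w = 0 := fun w => by
    induction w using Additive.rec with
    | ofMul a =>
      obtain ⟨x, rfl⟩ : ∃ x, Abelianization.of x = a := QuotientGroup.mk_surjective a
      rw [← ofMul_pow, ofMul_eq_zero, ← map_pow, pow_two]
      exact (hker (x * x)).mpr (hsm x)
  letI : Module (ZMod 2) W := AddCommGroup.zmodModule htwo
  let mk : E → W := fun x => Additive.ofMul (Abelianization.of x)
  have mk_mul : ∀ x y, mk (x * y) = mk x + mk y := fun x y => by simp [mk]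
  have mk_surj : Function.Surjective mk := fun w => by
    obtain ⟨x, hx⟩ := QuotientGroup.mk_surjective w.toMul
    exact ⟨x, hx⟩
  have mk_zero : ∀ x, mk x = 0 ↔ x ∈ Subgroup.center E := fun x => by
    simp only [mk, ofMul_eq_zero]; exact hker x
  have mk_eq : ∀ x y, mk x = mk y → ∃ c ∈ Subgroup.center E, y = x * c := fun x y hxy => by
    refine ⟨x⁻¹ * y, (mk_zero _).mp ?_, (mul_inv_cancel_left x y).symm⟩
    have h1 := mk_mul x (x⁻¹ * y)
    rw [mul_inv_cancel_left, ← hxy, left_eq_add] at h1
    exact h1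
  let sec : W → E := Function.surjInv mk_surj
  have hsec : ∀ w, mk (sec w) = w := Function.surjInv_eq mk_surj
  let cb : E → E → ZMod 2 := fun x y => bit ⁅x, y⁆
  have cb_right : ∀ x y y', cb x (y * y') = cb x y + cb x y' := fun x y y' => by
    simp only [cb]
    rw [← bit_mul hc2 (hcm x y) (hcm x y')]
    exact congrArg bit (congrArg Subtype.val ((commCenterHom hE x).map_mul y y'))
  have cb_swap : ∀ x y, cb x y = cb y x := fun x y => by
    have h1 : ⁅y, x⁆ = ⁅x, y⁆ := by
      rw [← commutatorElement_inv]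
      refine eq_of_centre_card hc2 (inv_mem (hcm x y)) (hcm x y) inv_eq_one
    simp only [cb, h1]
  have cb_left : ∀ x x' y, cb (x * x') y = cb x y + cb x' y := fun x x' y => by
    rw [cb_swap, cb_right, cb_swap y x, cb_swap y x']
  have cb_center : ∀ x, ∀ c ∈ Subgroup.center E, cb x c = 0 := fun x c hc => by
    simp only [cb]
    rw [bit_eq_zero, commutatorElement_eq_one_iff_mul_comm]
    exact Subgroup.mem_center_iff.mp hc x
  have cb_congr : ∀ x x' y y', mk x = mk x' → mk y = mk y' → cb x y = cb x' y' := by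
    intro x x' y y' hx hy
    obtain ⟨c, hc, rfl⟩ := mk_eq x x' hx
    obtain ⟨d, hd, rfl⟩ := mk_eq y y' hy
    rw [cb_right, cb_center _ _ hd, cb_left, cb_swap c, cb_center _ _ hc, add_zero, add_zero]
  let sq : E → ZMod 2 := fun x => bit (x * x)
  have sq_mul : ∀ x y, sq (x * y) = sq x + sq y + cb y x := fun x y => by
    simp only [sq, cb]
    have hxy : x * y * (x * y) = x * x * (⁅y, x⁆ * (y * y)) := by
      have h1 : y * x = ⁅y, x⁆ * (x * y) := by rw [commutatorElement_def]; group
      have h2 : x * ⁅y, x⁆ = ⁅y, x⁆ * x := Subgroup.mem_center_iff.mp (hcm y x) x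
      calc x * y * (x * y) = x * (y * x) * y := by group
        _ = x * ⁅y, x⁆ * (x * (y * y)) := by rw [h1]; group
        _ = ⁅y, x⁆ * x * (x * (y * y)) := by rw [h2]
        _ = ⁅y, x⁆ * (x * x) * (y * y) := by group
        _ = x * x * ⁅y, x⁆ * (y * y) := by rw [Subgroup.mem_center_iff.mp (hsm x) ⁅y, x⁆]
        _ = _ := by group
    rw [hxy, bit_mul hc2 (hsm x) (mul_mem (hcm y x) (hsm y)), bit_mul hc2 (hcm y x) (hsm y)]
    abel
  have sq_congr : ∀ x x', mk x = mk x' → sq x = sq x' := fun x x' hx => by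
    obtain ⟨c, hc, rfl⟩ := mk_eq x x' hx
    have h1 : sq c = 0 := by
      simp only [sq]
      rw [bit_mul hc2 hc hc, CharTwo.add_self_eq_zero]
    rw [sq_mul, h1, cb_swap, cb_center _ _ hc, add_zero, add_zero]
  let b : W → W → ZMod 2 := fun u v => cb (sec u) (sec v)
  have b_mk : ∀ x y, b (mk x) (mk y) = cb x y := fun x y => cb_congr _ _ _ _ (hsec _) (hsec _)
  have b_right : ∀ u v v', b u (v + v') = b u v + b u v' := fun u v v' => by
    obtain ⟨x, rfl⟩ := mk_surj u
    obtain ⟨y, rfl⟩ := mk_surj v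
    obtain ⟨y', rfl⟩ := mk_surj v'
    rw [← mk_mul, b_mk, b_mk, b_mk, cb_right]
  have b_left : ∀ u u' v, b (u + u') v = b u v + b u' v := fun u u' v => by
    obtain ⟨x, rfl⟩ := mk_surj u
    obtain ⟨x', rfl⟩ := mk_surj u'
    obtain ⟨y, rfl⟩ := mk_surj v
    rw [← mk_mul, b_mk, b_mk, b_mk, cb_left]
  let B : LinearMap.BilinForm (ZMod 2) W :=
    (AddMonoidHom.mk' (fun u => (AddMonoidHom.mk' (b u) (b_right u)).toZModLinearMap 2)
      (fun u u' => LinearMap.ext fun v => b_left u u' v)).toZModLinearMap 2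
  have B_mk : ∀ x y, B (mk x) (mk y) = cb x y := b_mk
  have hA : B.IsAlt := fun u => by
    obtain ⟨x, rfl⟩ := mk_surj u
    rw [B_mk]
    simp [cb, bit_one]
  haveI : Finite W := Finite.of_surjective mk mk_surj
  have hWcard : Nat.card W = 2 ^ (2 * n) := by
    have h1 : Nat.card E = Nat.card (Abelianization E) * Nat.card (commutator E) :=
      Subgroup.card_eq_card_quotient_mul_card_subgroup _
    rw [hE.1.2.2, hc2, hcard, pow_succ] at h1
    exact (Nat.eq_of_mul_eq_mul_right two_pos h1).symm
  have hfin : Module.finrank (ZMod 2) W = 2 * n := by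
    have h1 := Module.natCard_eq_pow_finrank (K := ZMod 2) (V := W)
    rw [hWcard, Nat.card_zmod] at h1
    exact (Nat.pow_right_injective le_rfl h1).symm
  obtain ⟨m, k, f, hmk, hspan, h1, h2, h3, h4⟩ :=
    CfsgLib.Forms.exists_symplectic_family B hA (2 * n) ⊤ (by rw [finrank_top, hfin])
  have hrad : ∀ w : W, (∀ v, B w v = 0) → w = 0 := fun w hw => by
    obtain ⟨x, rfl⟩ := mk_surj w
    rw [mk_zero, Subgroup.mem_center_iff]
    intro y
    have := hw (mk y)
    rw [B_mk] at this
    exact (commutatorElement_eq_one_iff_mul_comm.mp ((bit_eq_zero _).mp this)).symm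
  have hindep : LinearIndependent (ZMod 2) f := by
    refine linearIndependent_of_top_le_span_of_card_eq_finrank hspan.ge ?_
    simp only [Fintype.card_sum, Fintype.card_fin, hfin]
    omega
  have hk : k = 0 := by
    by_contra hk
    exact hindep.ne_zero (.inr ⟨0, Nat.pos_of_ne_zero hk⟩)
      (hrad _ fun v => h4 _ v Submodule.mem_top)
  subst hk
  have hmn : m = n := by omega
  subst hmn
  let bas0 := Module.Basis.mk hindep hspan.ge
  let bas := bas0.reindex (Equiv.sumEmpty (Fin m ⊕ Fin m) (Fin 0))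
  let co : W ≃ₗ[ZMod 2] Vec m := bas.equivFun
  have hbas : ∀ i, bas i = f (.inl i) := fun i => by simp [bas, bas0]
  have hco : ∀ u v : W, B u v = pol m (co u) (co v) := by
    have hq : ∀ u v, QuadraticMap.polarBilin (CfsgLib.F2Quad.plusForm m) u v = pol m u v := fun u v => by
      rw [QuadraticMap.polarBilin_apply_apply, QuadraticMap.polar, CfsgLib.F2Quad.plusForm_apply,
        CfsgLib.F2Quad.plusForm_apply, CfsgLib.F2Quad.plusForm_apply, CfsgLib.F2Quad.pol_eq]
    suffices B = (QuadraticMap.polarBilin (CfsgLib.F2Quad.plusForm m)).compl₁₂ co.toLinearMap co.toLinearMap by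
      intro u v
      rw [this]
      exact hq _ _
    refine LinearMap.ext_basis bas bas fun i j => ?_
    rw [LinearMap.compl₁₂_apply, hq, LinearEquiv.coe_coe,
      show co (bas i) = Pi.single i 1 by funext t; simp [co, Finsupp.single_apply, Pi.single_apply, eq_comm],
      show co (bas j) = Pi.single j 1 by funext t; simp [co, Finsupp.single_apply, Pi.single_apply, eq_comm],
      hbas, hbas]
    have hswap : ∀ u v, B u v = B v u := fun u v => by
      rw [← LinearMap.IsAlt.neg hA v u, CharTwo.neg_eq]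
    rcases i with i | i <;> rcases j with j | j
    · rw [h2]; simp [pol]
    · rw [h1]; simp [pol, Pi.single_apply, eq_comm]
    · rw [hswap, h1]; simp [pol, Pi.single_apply, eq_comm]
    · rw [h3]; simp [pol]
  refine ⟨⟨fun x => co (mk x), co.surjective.comp mk_surj, fun x y => by rw [mk_mul, map_add],
    fun x => by rw [LinearEquiv.map_eq_zero_iff, mk_zero], fun v => sq (sec (co.symm v)), ?_, ?_, ?_, hc2⟩⟩
  · intro u v
    rw [CfsgLib.F2Quad.pol_eq]
    obtain ⟨x, hx⟩ := mk_surj (co.symm u)
    obtain ⟨y, hy⟩ := mk_surj (co.symm v)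
    show sq (sec (co.symm (u + v))) = sq (sec (co.symm u)) + sq (sec (co.symm v)) + _
    rw [map_add, ← hx, ← hy, ← mk_mul, sq_congr _ _ (hsec _), sq_congr _ _ (hsec _), sq_congr _ _ (hsec _), sq_mul,
      cb_swap, ← B_mk, hco, hx, hy, LinearEquiv.apply_symm_apply, LinearEquiv.apply_symm_apply]
  · intro x
    show x * x = 1 ↔ sq (sec (co.symm (co (mk x)))) = 0
    rw [LinearEquiv.symm_apply_apply, sq_congr _ _ (hsec _), bit_eq_zero]
  · intro x y
    rw [← hco, B_mk, bit_eq_zero]

end CfsgLib.Extraspecial
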