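import Mathlib
import Cfsg.Prelude.Def_Transfer
import Cfsg.Agent.Lib.PGroup.Basic

/-! Extraspecial 2-groups of both types as cocycle extensions, with their 2-ranks. -/

set_option autoImplicit false

namespace CfsgLib.ExtraTwoTypes

open scoped commutatorElement

variable {m : ℕ} {e : ZMod 2}

/-- The symplectic space of dimension `2 * (m + 1)` over the field with two elements. -/
abbrev V (m : ℕ) : Type := (Fin (m + 1) → ZMod 2) × (Fin (m + 1) → ZMod 2)

/-- The cocycle. -/
def beta (e : ZMod 2) (v w : V m) : ZMod 2 :=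
  ∑ i, v.1 i * w.2 i + e * (v.1 0 * w.1 0 + v.2 0 * w.2 0)

theorem beta_add_left (u v w : V m) : beta e (u + v) w = beta e u w + beta e v w := by
  simp only [beta, Prod.fst_add, Prod.snd_add, Pi.add_apply, add_mul, Finset.sum_add_distrib]; ring

theorem beta_add_right (u v w : V m) : beta e u (v + w) = beta e u v + beta e u w := by
  simp only [beta, Prod.fst_add, Prod.snd_add, Pi.add_apply, mul_add, Finset.sum_add_distrib]; ring

theorem beta_zero_left (w : V m) : beta e 0 w = 0 := by simp [beta]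

theorem beta_zero_right (w : V m) : beta e w 0 = 0 := by simp [beta]

theorem beta_symm (v w : V m) :
    beta e v w + beta e w v = ∑ i, (v.1 i * w.2 i + w.1 i * v.2 i) := by
  simp only [beta, Finset.sum_add_distrib]
  linear_combination e * (v.1 0 * w.1 0 + v.2 0 * w.2 0) * CharTwo.two_eq_zero (R := ZMod 2)

/-- The extension of the space by a group of order two. -/
@[ext]
structure Grp (m : ℕ) (e : ZMod 2) : Type where
  v : V m
  a : ZMod 2
deriving DecidableEq, Fintype

instance : Mul (Grp m e) := ⟨fun g h => ⟨g.v + h.v, g.a + h.a + beta e g.v h.v⟩⟩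
instance : One (Grp m e) := ⟨⟨0, 0⟩⟩
instance : Inv (Grp m e) := ⟨fun g => ⟨g.v, g.a + beta e g.v g.v⟩⟩

@[simp] theorem mul_v (g h : Grp m e) : (g * h).v = g.v + h.v := rfl
@[simp] theorem mul_a (g h : Grp m e) : (g * h).a = g.a + h.a + beta e g.v h.v := rfl
@[simp] theorem one_v : (1 : Grp m e).v = 0 := rfl
@[simp] theorem one_a : (1 : Grp m e).a = 0 := rfl
@[simp] theorem inv_v (g : Grp m e) : g⁻¹.v = g.v := rfl
@[simp] theorem inv_a (g : Grp m e) : g⁻¹.a = g.a + beta e g.v g.v := rfl

theorem self_add (v : V m) : v + v = 0 :=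
  Prod.ext (funext fun _ => CharTwo.add_self_eq_zero _) (funext fun _ => CharTwo.add_self_eq_zero _)

instance : Group (Grp m e) := Group.ofLeftAxioms
  (fun f g h => Grp.ext (add_assoc _ _ _) (by simp [beta_add_left, beta_add_right]; ring))
  (fun g => Grp.ext (zero_add _) (by simp [beta_zero_left]))
  (fun g => Grp.ext (by simp [self_add]) (by
    simp only [mul_a, inv_a, inv_v, one_a]
    linear_combination (g.a + beta e g.v g.v) * CharTwo.two_eq_zero (R := ZMod 2)))

theorem card_grp : Nat.card (Grp m e) = 2 ^ (2 * (m + 1) + 1) := by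
  rw [Nat.card_congr (⟨fun g => (g.v, g.a), fun p => ⟨p.1, p.2⟩, fun _ => rfl, fun _ => rfl⟩ :
    Grp m e ≃ V m × ZMod 2)]
  simp only [Nat.card_prod, Nat.card_fun, Nat.card_zmod, Nat.card_eq_fintype_card (α := Fin (m + 1)),
    Fintype.card_fin]
  ring

theorem exists_polar (v : V m) (hv : v ≠ 0) : ∃ w : V m, beta e v w + beta e w v = 1 := by
  by_cases h1 : v.1 = 0
  · obtain ⟨j, hj⟩ := Function.ne_iff.1 (fun h2 => hv (Prod.ext h1 h2) : v.2 ≠ 0)
    refine ⟨(Pi.single j 1, 0), ?_⟩
    rw [beta_symm]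
    simp [Pi.single_apply]
    exact (show ∀ a : ZMod 2, a ≠ 0 → a = 1 by decide) _ hj
  · obtain ⟨j, hj⟩ := Function.ne_iff.1 h1
    refine ⟨(0, Pi.single j 1), ?_⟩
    rw [beta_symm]
    simp [Pi.single_apply]
    exact (show ∀ a : ZMod 2, a ≠ 0 → a = 1 by decide) _ hj

theorem mem_center_iff (g : Grp m e) : g ∈ Subgroup.center (Grp m e) ↔ g.v = 0 := by
  rw [Subgroup.mem_center_iff]
  constructor
  · intro h
    by_contra hg
    obtain ⟨w, hw⟩ := exists_polar (e := e) g.v hg
    have h1 := congrArg Grp.a (h ⟨w, 0⟩)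
    simp only [mul_a] at h1
    have h2 : beta e g.v w + beta e w g.v = 0 := by
      linear_combination h1 + (beta e g.v w) * CharTwo.two_eq_zero (R := ZMod 2)
    rw [h2] at hw
    exact zero_ne_one hw
  · intro h k
    exact Grp.ext (add_comm _ _) (by simp [h, beta_zero_left, beta_zero_right, add_comm])

theorem sq_eq (g : Grp m e) : g ^ 2 = ⟨0, beta e g.v g.v⟩ := by
  rw [pow_two]; exact Grp.ext (self_add _) (by simp [CharTwo.add_self_eq_zero])

theorem card_center : Nat.card (Subgroup.center (Grp m e)) = 2 := by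
  rw [Nat.card_congr (⟨fun g => g.1.a, fun a => ⟨⟨0, a⟩, (mem_center_iff _).2 rfl⟩,
    fun g => Subtype.ext (Grp.ext ((mem_center_iff g.1).1 g.2).symm rfl), fun _ => rfl⟩ :
    Subgroup.center (Grp m e) ≃ ZMod 2), Nat.card_zmod]

theorem commutator_v (g h : Grp m e) : ⁅g, h⁆.v = 0 := by
  rw [commutatorElement_def, mul_v, mul_v, mul_v, inv_v, inv_v,
    show g.v + h.v + g.v + h.v = (g.v + g.v) + (h.v + h.v) by abel, self_add, self_add, add_zero]

theorem isExtraspecial : Cfsg.IsExtraspecial 2 (Grp m e) := by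
  have hp : IsPGroup 2 (Grp m e) := IsPGroup.of_card card_grp
  haveI : Fact (Nat.Prime 2) := ⟨Nat.prime_two⟩
  have hle : commutator (Grp m e) ≤ Subgroup.center (Grp m e) := by
    rw [commutator_eq_closure, Subgroup.closure_le]
    rintro x ⟨g, h, rfl⟩
    exact (mem_center_iff _).2 (commutator_v g h)
  have hcomm : commutator (Grp m e) = Subgroup.center (Grp m e) := by
    obtain ⟨w, hw⟩ := exists_polar (e := e) ((Pi.single (0 : Fin (m + 1)) 1, 0) : V m) (fun h => by
      simpa using congrFun (congrArg Prod.fst h) 0)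
    set g : Grp m e := ⟨(Pi.single 0 1, 0), 0⟩
    set h : Grp m e := ⟨w, 0⟩
    have hne : ⁅g, h⁆ ≠ 1 := by
      rw [ne_eq, commutatorElement_eq_one_iff_commute]
      intro hc
      have h1 := congrArg Grp.a hc.eq
      simp only [mul_a, g, h] at h1
      rw [zero_add, zero_add, zero_add] at h1
      rw [h1, CharTwo.add_self_eq_zero] at hw
      exact zero_ne_one hw
    have h2 : 1 < Nat.card (commutator (Grp m e)) := Subgroup.one_lt_card_iff_ne_bot _ |>.2 fun hb =>
      hne (Subgroup.mem_bot.1 (hb ▸ Subgroup.commutator_mem_commutator (Subgroup.mem_top g) (Subgroup.mem_top h)))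
    exact Subgroup.eq_of_le_of_card_ge hle (by rw [card_center]; omega)
  refine ⟨⟨hp, le_antisymm ?_ ?_, hcomm⟩, card_center⟩
  · exact PGroup.frattini_le_of_elementary (p := 2) (fun g h => (mem_center_iff _).2 (commutator_v g h))
      fun g => (mem_center_iff _).2 (by rw [sq_eq])
  · rw [← hcomm]; exact PGroup.commutator_le_frattini hp

/-- The sign character. -/
def chi (a : ZMod 2) : ℤ := if a = 0 then 1 else -1

theorem chi_add : ∀ a b : ZMod 2, chi (a + b) = chi a * chi b := by decide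

theorem chi_sum {ι : Type*} (s : Finset ι) (f : ι → ZMod 2) : chi (∑ i ∈ s, f i) = ∏ i ∈ s, chi (f i) := by
  classical
  induction s using Finset.induction with
  | empty => rfl
  | insert i s hi ih => rw [Finset.sum_insert hi, Finset.prod_insert hi, chi_add, ih]

/-- The polar form. -/
def polar (e : ZMod 2) (v w : V m) : ZMod 2 := beta e v w + beta e w v

theorem sum_chi_polar (w : V m) (hw : w ≠ 0) : ∑ v : V m, chi (polar e v w) = 0 := by
  obtain ⟨u, hu⟩ := exists_polar (e := e) w hw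
  have h1 : ∑ v : V m, chi (polar e v w) = ∑ v : V m, chi (polar e (v + u) w) :=
    (Fintype.sum_equiv (Equiv.addRight u) _ _ fun _ => rfl).symm
  have h2 : ∀ v, chi (polar e (v + u) w) = -chi (polar e v w) := fun v => by
    rw [show polar e (v + u) w = polar e v w + 1 by
      rw [← hu, polar, polar, beta_add_left, beta_add_right]; ring, chi_add]
    simp [show chi 1 = -1 by decide]
  rw [Finset.sum_congr rfl fun v _ => h2 v, Finset.sum_neg_distrib] at h1
  linarith

variable {W : Finset (V m)}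

/-- A finite totally singular subgroup. -/
structure Singular (e : ZMod 2) (W : Finset (V m)) : Prop where
  zero : (0 : V m) ∈ W
  add : ∀ v ∈ W, ∀ w ∈ W, v + w ∈ W
  quad : ∀ v ∈ W, beta e v v = 0

theorem Singular.polar_eq_zero (h : Singular e W) {v w : V m} (hv : v ∈ W) (hw : w ∈ W) :
    polar e v w = 0 := by
  have := h.quad _ (h.add v hv w hw)
  rw [beta_add_left, beta_add_right, beta_add_right, h.quad v hv, h.quad w hw, zero_add, add_zero] at this
  exact this

open Classical in
theorem Singular.sum_polar (h : Singular e W) (v : V m) :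
    ∑ w ∈ W, chi (polar e v w) = if ∀ w ∈ W, polar e v w = 0 then (W.card : ℤ) else 0 := by
  split_ifs with hv
  · rw [Finset.sum_congr rfl fun w hw => by rw [hv w hw], Finset.sum_const]
    simp [show chi 0 = 1 by decide]
  · push Not at hv
    obtain ⟨u, hu, hu'⟩ := hv
    have h2 : ∀ w, chi (polar e v (w + u)) = -chi (polar e v w) := fun w => by
      rw [show polar e v (w + u) = polar e v w + polar e v u by
        rw [polar, polar, polar, beta_add_left, beta_add_right]; ring, chi_add,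
        (show ∀ a : ZMod 2, a ≠ 0 → chi a = -1 by decide) _ hu']
      ring
    have h1 : ∑ w ∈ W, chi (polar e v w) = ∑ w ∈ W, chi (polar e v (w + u)) :=
      Finset.sum_nbij' (fun w => w + u) (fun w => w + u) (fun w hw => h.add w hw u hu)
        (fun w hw => h.add w hw u hu) (fun w _ => by rw [add_assoc, self_add, add_zero])
        (fun w _ => by rw [add_assoc, self_add, add_zero]) (fun w _ => by rw [add_assoc, self_add, add_zero])
    rw [Finset.sum_congr rfl fun w _ => h2 w, Finset.sum_neg_distrib] at h1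
    linarith

open Classical in
/-- The orthogonal complement. -/
noncomputable def perp (e : ZMod 2) (W : Finset (V m)) : Finset (V m) :=
  Finset.univ.filter fun v => ∀ w ∈ W, polar e v w = 0

theorem Singular.card_mul_perp (h : Singular e W) : W.card * (perp e W).card = Fintype.card (V m) := by
  classical
  have h1 : ∑ v : V m, ∑ w ∈ W, chi (polar e v w) = ((W.card * (perp e W).card : ℕ) : ℤ) := by
    rw [Finset.sum_congr rfl fun v _ => h.sum_polar v, ← Finset.sum_filter, Finset.sum_const, perp]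
    simp [mul_comm]
  rw [Finset.sum_comm, Finset.sum_eq_single_of_mem 0 h.zero fun w _ hw => sum_chi_polar w hw] at h1
  simp [polar, beta_zero_left, beta_zero_right, show chi 0 = 1 by decide] at h1
  simp
  exact_mod_cast h1.symm

theorem card_V : Fintype.card (V m) = 2 ^ (m + 1) * 2 ^ (m + 1) := by simp

theorem Singular.card_le (h : Singular e W) : W.card ≤ 2 ^ (m + 1) := by
  classical
  have hle : W.card ≤ (perp e W).card := Finset.card_le_card fun v hv =>
    Finset.mem_filter.2 ⟨Finset.mem_univ _, fun w hw => h.polar_eq_zero hv hw⟩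
  by_contra hc
  have h1 := h.card_mul_perp
  rw [card_V] at h1
  have h2 : (2 ^ (m + 1) + 1) * (2 ^ (m + 1) + 1) ≤ W.card * (perp e W).card :=
    Nat.mul_le_mul (by omega) (by omega)
  generalize 2 ^ (m + 1) = T at h1 h2
  nlinarith [h1, h2, Nat.zero_le T]

theorem gauss_sum : ∑ v : V m, chi (beta 1 v v) = -(2 ^ (m + 1)) := by
  classical
  have h1 : ∀ v : V m, chi (beta 1 v v) =
      ∏ i, chi (v.1 i * v.2 i + if i = 0 then v.1 i + v.2 i else 0) := fun v => by
    rw [← chi_sum, Finset.sum_add_distrib, Finset.sum_ite_eq' Finset.univ 0, if_pos (Finset.mem_univ _),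
      beta, one_mul, (show ∀ a : ZMod 2, a * a = a by decide), (show ∀ a : ZMod 2, a * a = a by decide)]
  rw [Finset.sum_congr rfl fun v _ => h1 v,
    Fintype.sum_equiv (Equiv.arrowProdEquivProdArrow (Fin (m + 1)) (fun _ => ZMod 2) (fun _ => ZMod 2)).symm
      (fun v => ∏ i, chi (v.1 i * v.2 i + if i = 0 then v.1 i + v.2 i else 0))
      (fun f => ∏ i, chi ((f i).1 * (f i).2 + if i = 0 then (f i).1 + (f i).2 else 0)) (fun _ => rfl)]
  rw [show (∑ f : Fin (m + 1) → ZMod 2 × ZMod 2,
      ∏ i, chi ((f i).1 * (f i).2 + if i = 0 then (f i).1 + (f i).2 else 0)) =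
      ∏ i : Fin (m + 1), ∑ p : ZMod 2 × ZMod 2, chi (p.1 * p.2 + if i = 0 then p.1 + p.2 else 0) from
    (Fintype.prod_sum fun (i : Fin (m + 1)) (p : ZMod 2 × ZMod 2) => chi (p.1 * p.2 + if i = 0 then p.1 + p.2 else 0)).symm,
    Fin.prod_univ_succ]
  simp only [↓reduceIte, Fin.succ_ne_zero, Finset.prod_const, Finset.card_univ, Fintype.card_fin]
  rw [show (∑ p : ZMod 2 × ZMod 2, chi (p.1 * p.2 + (p.1 + p.2))) = -2 by decide,
    show (∑ p : ZMod 2 × ZMod 2, chi (p.1 * p.2 + 0)) = 2 by decide, pow_succ]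
  ring

theorem Singular.card_ne (h : Singular 1 W) : W.card ≠ 2 ^ (m + 1) := by
  classical
  intro hc
  have hp : W = perp 1 W := by
    refine Finset.eq_of_subset_of_card_le (fun v hv =>
      Finset.mem_filter.2 ⟨Finset.mem_univ _, fun w hw => h.polar_eq_zero hv hw⟩) ?_
    have h1 := h.card_mul_perp
    rw [card_V, hc] at h1
    have := Nat.eq_of_mul_eq_mul_left (by positivity) h1
    omega
  have h1 : ∑ w ∈ W, ∑ v : V m, chi (beta 1 (v + w) (v + w)) = (W.card : ℤ) * -(2 ^ (m + 1)) := by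
    rw [← gauss_sum (m := m), Finset.sum_congr rfl fun w _ =>
      Fintype.sum_equiv (Equiv.addRight w) (fun v => chi (beta 1 (v + w) (v + w)))
        (fun v => chi (beta 1 v v)) fun _ => rfl, Finset.sum_const]
    simp
  have h2 : ∀ w ∈ W, ∀ v, chi (beta 1 (v + w) (v + w)) = chi (beta 1 v v) * chi (polar 1 v w) := fun w hw v => by
    rw [← chi_add, beta_add_left, beta_add_right, beta_add_right, h.quad w hw, polar]; congr 1; ring
  rw [Finset.sum_congr rfl fun w hw => Finset.sum_congr rfl fun v _ => h2 w hw v, Finset.sum_comm,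
    Finset.sum_congr rfl fun v _ => (Finset.mul_sum W (fun w => chi (polar 1 v w)) (chi (beta 1 v v))).symm,
    Finset.sum_congr rfl fun v _ => by rw [h.sum_polar v, mul_ite, mul_zero], ← Finset.sum_filter] at h1
  rw [show Finset.univ.filter (fun v => ∀ w ∈ W, polar 1 v w = 0) = W from hp.symm,
    Finset.sum_congr rfl fun v hv => by rw [h.quad v hv, show chi 0 = 1 by decide, one_mul],
    Finset.sum_const, hc] at h1
  simp at h1
  have : (0 : ℤ) < 2 ^ (m + 1) := by positivity
  nlinarith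

open Classical in
theorem exists_singular (A : Subgroup (Grp m e)) (hA : Cfsg.IsElementaryAbelian 2 A) :
    ∃ W : Finset (V m), Singular e W ∧ Nat.card A ≤ W.card * 2 := by
  refine ⟨Finset.univ.filter fun v => ∃ g ∈ A, g.v = v, ⟨?_, ?_, ?_⟩, ?_⟩
  · exact Finset.mem_filter.2 ⟨Finset.mem_univ _, 1, A.one_mem, rfl⟩
  · intro v hv w hw
    obtain ⟨g, hg, rfl⟩ := (Finset.mem_filter.1 hv).2
    obtain ⟨k, hk, rfl⟩ := (Finset.mem_filter.1 hw).2
    exact Finset.mem_filter.2 ⟨Finset.mem_univ _, g * k, A.mul_mem hg hk, rfl⟩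
  · intro v hv
    obtain ⟨g, hg, rfl⟩ := (Finset.mem_filter.1 hv).2
    have h1 : g ^ 2 = 1 := hA.2 g hg
    rw [sq_eq] at h1
    exact congrArg Grp.a h1
  · have hinj : Function.Injective (fun g : A =>
        ((⟨g.1.v, Finset.mem_filter.2 ⟨Finset.mem_univ _, g.1, g.2, rfl⟩⟩ :
          (Finset.univ.filter fun v => ∃ g ∈ A, g.v = v)), g.1.a)) := fun g k hgk => by
      simp only [Prod.mk.injEq, Subtype.mk.injEq] at hgk
      exact Subtype.ext (Grp.ext hgk.1 hgk.2)
    refine (Nat.card_le_card_of_injective _ hinj).trans (le_of_eq ?_)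
    rw [Nat.card_prod, Nat.card_zmod, Nat.card_eq_finsetCard]

/-- The standard elementary abelian subgroup on the first half of the coordinates. -/
def stdSub (m : ℕ) (e : ZMod 2) : Subgroup (Grp m e) where
  carrier := {g | g.v.2 = 0 ∧ e * g.v.1 0 = 0}
  one_mem' := ⟨rfl, mul_zero e⟩
  mul_mem' := fun {g k} hg hk => ⟨by simp [hg.1, hk.1], by simp [mul_add, hg.2, hk.2]⟩
  inv_mem' := fun {g} hg => hg

theorem beta_std {g k : Grp m e} (hg : g ∈ stdSub m e) (hk : k ∈ stdSub m e) : beta e g.v k.v = 0 := by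
  obtain ⟨hg1, hg2⟩ := hg
  rw [beta, hk.1, hg1]
  simp [← mul_assoc, hg2]

theorem stdSub_elementary : Cfsg.IsElementaryAbelian 2 (stdSub m e) := by
  refine ⟨⟨⟨fun g k => Subtype.ext (Grp.ext (add_comm _ _) ?_)⟩⟩, fun g hg => ?_⟩
  · show (g.1 * k.1).a = (k.1 * g.1).a
    simp [beta_std g.2 k.2, beta_std k.2 g.2, add_comm]
  · rw [sq_eq, beta_std hg hg]; rfl

theorem card_stdSub_zero : Nat.card (stdSub m 0) = 2 ^ (m + 2) := by
  rw [Nat.card_congr (⟨fun g => (g.1.v.1, g.1.a), fun p => ⟨⟨(p.1, 0), p.2⟩, rfl, zero_mul _⟩,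
    fun g => Subtype.ext (Grp.ext (Prod.ext rfl g.2.1.symm) rfl), fun _ => rfl⟩ :
    stdSub m 0 ≃ (Fin (m + 1) → ZMod 2) × ZMod 2), Nat.card_prod, Nat.card_fun, Nat.card_zmod, Nat.card_fin,
    pow_succ _ (m + 1)]

theorem card_stdSub_one : Nat.card (stdSub m 1) = 2 ^ (m + 1) := by
  rw [Nat.card_congr (⟨fun g => (Fin.tail g.1.v.1, g.1.a),
    fun p => ⟨⟨(Fin.cons 0 p.1, 0), p.2⟩, rfl, by simp⟩,
    fun g => Subtype.ext (Grp.ext (Prod.ext (by
      have h0 : g.1.v.1 0 = 0 := by simpa using g.2.2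
      conv_rhs => rw [← Fin.cons_self_tail g.1.v.1, h0]) g.2.1.symm) rfl),
    fun p => by simp⟩ :
    stdSub m 1 ≃ (Fin m → ZMod 2) × ZMod 2), Nat.card_prod, Nat.card_fun, Nat.card_zmod, Nat.card_fin,
    pow_succ]

theorem card_le_zero (A : Subgroup (Grp m 0)) (hA : Cfsg.IsElementaryAbelian 2 A) :
    Nat.card A ≤ 2 ^ (m + 2) := by
  obtain ⟨W, hW, hle⟩ := exists_singular A hA
  have := hW.card_le
  rw [pow_succ]; omega

theorem card_lt_one (A : Subgroup (Grp m 1)) (hA : Cfsg.IsElementaryAbelian 2 A) :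
    Nat.card A < 2 ^ (m + 2) := by
  obtain ⟨W, hW, hle⟩ := exists_singular A hA
  have := hW.card_le
  have := hW.card_ne
  rw [pow_succ]; omega

theorem exists_of_rank (n : ℕ) (hn : 1 ≤ n) : ∀ r ∈ ({n, n + 1} : Set ℕ),
    ∃ (E : Type) (_ : Group E) (_ : Finite E), Cfsg.IsExtraspecial 2 E ∧ Nat.card E = 2 ^ (2 * n + 1) ∧
      sSup {k : ℕ | ∃ A : Subgroup E, Cfsg.IsElementaryAbelian 2 A ∧ Nat.card A = 2 ^ k} = r := by
  obtain ⟨m, rfl⟩ := Nat.exists_eq_add_of_le hn
  rw [show 1 + m = m + 1 from add_comm 1 m]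
  rintro r (rfl | rfl)
  · refine ⟨Grp m 1, inferInstance, inferInstance, isExtraspecial, card_grp, IsGreatest.csSup_eq
      ⟨⟨stdSub m 1, stdSub_elementary, card_stdSub_one⟩, ?_⟩⟩
    rintro k ⟨A, hA, hk⟩
    have := card_lt_one A hA
    rw [hk, Nat.pow_lt_pow_iff_right (by norm_num)] at this
    omega
  · refine ⟨Grp m 0, inferInstance, inferInstance, isExtraspecial, card_grp, IsGreatest.csSup_eq
      ⟨⟨stdSub m 0, stdSub_elementary, card_stdSub_zero⟩, ?_⟩⟩
    rintro k ⟨A, hA, hk⟩
    have := card_le_zero A hA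
    rw [hk] at this
    exact (Nat.pow_le_pow_iff_right (by norm_num)).1 this

end CfsgLib.ExtraTwoTypes
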