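import Cfsg.Prelude.Def_Classical
import Cfsg.Prelude.Def_KGroupFacts
import Cfsg.Agent.Lib.Extraspecial.Coordinates
import Cfsg.Agent.Lib.Extraspecial.TwoTypes

/-! The outer automorphism group of an extraspecial 2-group is an orthogonal group. -/

set_option autoImplicit false

namespace CfsgLib.Extraspecial

open scoped commutatorElement
open CfsgLib.F2Quad (Vec IsQF pol qw)

variable {E : Type*} [Group E] {n : ℕ}

namespace Coords

variable (C : Coords E n)
include C

theorem proj_one : C.proj 1 = 0 := (C.proj_eq_zero 1).mpr (one_mem _)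

theorem proj_inv (x : E) : C.proj x⁻¹ = C.proj x := by
  have h := C.proj_mul x x⁻¹
  rw [mul_inv_cancel, C.proj_one] at h
  rw [eq_neg_of_add_eq_zero_right h.symm]
  exact funext fun i => CharTwo.neg_eq _

theorem polar_form (u v : Vec n) : pol n u v = C.form (u + v) - C.form u - C.form v := by
  rw [← CfsgLib.F2Quad.pol_eq, C.form_qf u v]; ring

theorem sq_mem (x : E) : x * x ∈ Subgroup.center E :=
  (C.proj_eq_zero _).mp (by rw [C.proj_mul]; exact funext fun i => CharTwo.add_self_eq_zero _)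

theorem comm_mem (x y : E) : ⁅x, y⁆ ∈ Subgroup.center E :=
  (C.proj_eq_zero _).mp (by
    rw [commutatorElement_def, C.proj_mul, C.proj_mul, C.proj_mul, C.proj_inv, C.proj_inv]
    exact funext fun i => by
      simp only [Pi.add_apply, Pi.zero_apply]
      linear_combination (C.proj x i + C.proj y i) * CharTwo.two_eq_zero (R := ZMod 2))

/-- The isometry group of the square map. -/
def Iso : Subgroup (Vec n ≃ₗ[ZMod 2] Vec n) where
  carrier := {g | ∀ v, C.form (g v) = C.form v}
  one_mem' := fun _ => rfl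
  mul_mem' {a b} ha hb v := (ha (b v)).trans (hb v)
  inv_mem' {a} ha v := by
    show C.form (a.symm v) = C.form v
    conv_rhs => rw [← a.apply_symm_apply v, ha]

/-- The pairs of elements related by an isometry. -/
def pairs (g : C.Iso) : Subgroup (E × E) where
  carrier := {w | C.proj w.2 = g.1 (C.proj w.1)}
  one_mem' := by simp [C.proj_one]
  mul_mem' {a b} ha hb := by
    show C.proj (a.2 * b.2) = g.1 (C.proj (a.1 * b.1))
    rw [C.proj_mul, C.proj_mul, map_add, ha, hb]
  inv_mem' {a} ha := by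
    show C.proj a.2⁻¹ = g.1 (C.proj a.1⁻¹)
    rw [C.proj_inv, C.proj_inv, ha]

theorem pairs_sq {g : C.Iso} {w : E × E} (hw : w ∈ C.pairs g) : w.1 * w.1 = w.2 * w.2 :=
  eq_of_centre_card C.centre_card (C.sq_mem _) (C.sq_mem _) (by
    rw [C.sq_eq_one, C.sq_eq_one, show C.proj w.2 = g.1 (C.proj w.1) from hw, g.2])

theorem pairs_comm {g : C.Iso} {w w' : E × E} (hw : w ∈ C.pairs g) (hw' : w' ∈ C.pairs g) :
    ⁅w.1, w'.1⁆ = ⁅w.2, w'.2⁆ :=
  eq_of_centre_card C.centre_card (C.comm_mem _ _) (C.comm_mem _ _) (by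
    rw [C.comm_eq_one, C.comm_eq_one, show C.proj w.2 = g.1 (C.proj w.1) from hw,
      show C.proj w'.2 = g.1 (C.proj w'.1) from hw', C.polar_form, C.polar_form, ← map_add, g.2, g.2, g.2])

theorem exists_graph [Finite E] (g : C.Iso) : ∃ α : MulAut E, ∀ x, C.proj (α x) = g.1 (C.proj x) := by
  classical
  obtain ⟨z, hzc, hz1⟩ : ∃ z ∈ Subgroup.center E, z ≠ 1 := by
    refine (Subgroup.ne_bot_iff_exists_ne_one.mp fun h => ?_).elim fun z hz =>
      ⟨z.1, z.2, fun e => hz (Subtype.ext e)⟩
    have := C.centre_card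
    rw [h, Subgroup.card_bot] at this
    omega
  let S : Set (Subgroup (E × E)) :=
    {H | H ≤ C.pairs g ∧ (∀ c ∈ Subgroup.center E, (c, c) ∈ H) ∧ (1, z) ∉ H}
  let H₀ : Subgroup (E × E) := (Subgroup.center E).map ((MonoidHom.id E).prod (MonoidHom.id E))
  have hS : H₀ ∈ S := by
    refine ⟨?_, fun c hc => ⟨c, hc, rfl⟩, ?_⟩
    · rintro _ ⟨c, hc, rfl⟩
      show C.proj c = g.1 (C.proj c)
      rw [(C.proj_eq_zero c).mpr hc, map_zero]
    · rintro ⟨c, _, e⟩
      exact hz1 ((congrArg Prod.snd e).symm.trans (congrArg Prod.fst e))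
  obtain ⟨H, ⟨hHle, hHd, hHz⟩, hmax⟩ := (Set.toFinite S).exists_maximal ⟨H₀, hS⟩
  have hzz : z * z = 1 := by
    refine eq_of_centre_card C.centre_card (mul_mem hzc hzc) (one_mem _) ⟨fun _ => rfl, fun _ => ?_⟩
    rw [C.sq_eq_one, (C.proj_eq_zero z).mpr hzc]
    have := C.form_qf 0 0
    simpa [Cfsg.quadFormPlus] using this
  have hsq : ∀ w ∈ C.pairs g, w * w ∈ H := fun w hw => by
    show (w.1 * w.1, w.2 * w.2) ∈ H
    rw [← C.pairs_sq hw]
    exact hHd _ (C.sq_mem _)
  have hconj : ∀ w ∈ C.pairs g, ∀ h ∈ H, w * h * w⁻¹ ∈ H := fun w hw h hh => by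
    have h1 : ⁅w, h⁆ ∈ H := by
      show (⁅w.1, h.1⁆, ⁅w.2, h.2⁆) ∈ H
      rw [← C.pairs_comm hw (hHle hh)]
      exact hHd _ (C.comm_mem _ _)
    have := mul_mem h1 hh
    rwa [commutatorElement_def, inv_mul_cancel_right] at this
  have hsplit : ∀ w ∈ C.pairs g, w ∈ H ∨ w * (1, z) ∈ H := by
    intro w hw
    by_contra hc
    push Not at hc
    let K : Subgroup (E × E) :=
      { carrier := {u | u ∈ H ∨ u * w ∈ H}
        one_mem' := Or.inl H.one_mem
        mul_mem' := fun {a b} ha hb => by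
          rcases ha with ha | ha <;> rcases hb with hb | hb
          · exact Or.inl (mul_mem ha hb)
          · exact Or.inr (by rw [mul_assoc]; exact mul_mem ha hb)
          · refine Or.inr ?_
            have h2 := hconj w⁻¹ (inv_mem hw) b hb
            have : a * b * w = a * w * (w⁻¹ * b * w⁻¹⁻¹) := by group
            rw [this]; exact mul_mem ha h2
          · refine Or.inl ?_
            have h2 := hconj w⁻¹ (inv_mem hw) _ hb
            have : a * b = a * w * (w⁻¹ * (b * w) * w⁻¹⁻¹) * (w * w)⁻¹ := by group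
            rw [this]; exact mul_mem (mul_mem ha h2) (inv_mem (hsq w hw))
        inv_mem' := fun {a} ha => by
          rcases ha with ha | ha
          · exact Or.inl (inv_mem ha)
          · refine Or.inr ?_
            have h2 := hconj w hw _ (inv_mem ha)
            have : a⁻¹ * w = w * (a * w)⁻¹ * w⁻¹ * (w * w) := by group
            rw [this]; exact mul_mem h2 (hsq w hw) }
    have hHK : H ≤ K := fun u hu => Or.inl hu
    have hKle : K ≤ C.pairs g := by
      rintro u (hu | hu)
      · exact hHle hu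
      · simpa using mul_mem (hHle hu) (inv_mem hw)
    have hwK : w ∈ K := Or.inr (hsq w hw)
    have hz2 : (1, z) ∉ K := by
      rintro (hu | hu)
      · exact hHz hu
      · have h3 : (1, z) * w = w * (1, z) :=
          Prod.ext (by simp) (Subgroup.mem_center_iff.mp hzc w.2).symm
        exact hc.2 (h3 ▸ hu)
    exact hc.1 (hmax ⟨hKle, fun c hc' => Or.inl (hHd c hc'), hz2⟩ hHK hwK)
  have huniq : ∀ x y y', (x, y) ∈ H → (x, y') ∈ H → y = y' := by
    intro x y y' h1 h2
    have h3 := mul_mem (inv_mem h1) h2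
    rw [Prod.inv_mk, Prod.mk_mul_mk, inv_mul_cancel] at h3
    have h4 : C.proj (y⁻¹ * y') = 0 := by
      have h5 := hHle h3
      change C.proj (y⁻¹ * y') = g.1 (C.proj 1) at h5
      rwa [C.proj_one, map_zero] at h5
    by_contra hne
    have h6 : y⁻¹ * y' = z := eq_of_centre_card C.centre_card ((C.proj_eq_zero _).mp h4) hzc
      (by simp [inv_mul_eq_one, hne, hz1])
    rw [h6] at h3
    exact hHz h3
  have hex : ∀ x, ∃ y, (x, y) ∈ H := fun x => by
    obtain ⟨y, hy⟩ := C.proj_surj (g.1 (C.proj x))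
    rcases hsplit (x, y) hy with h | h
    · exact ⟨y, h⟩
    · exact ⟨y * z, by simpa using h⟩
  choose α hα using hex
  let f : E →* E := MonoidHom.mk' α fun x y =>
    huniq (x * y) _ _ (hα (x * y)) (by simpa using mul_mem (hα x) (hα y))
  have hf : Function.Injective f := by
    rw [injective_iff_map_eq_one]
    intro x hx
    have h1 : (x, 1) ∈ H := hx ▸ hα x
    have h2 : C.proj x = 0 := by
      have := hHle h1
      change C.proj 1 = g.1 (C.proj x) at this
      rw [C.proj_one] at this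
      exact g.1.map_eq_zero_iff.mp this.symm
    have hxc := (C.proj_eq_zero x).mp h2
    by_contra hx1
    have hxz : x = z := eq_of_centre_card C.centre_card hxc hzc (by simp [hx1, hz1])
    subst hxz
    have h3 := mul_mem h1 (hHd x hzc)
    rw [Prod.mk_mul_mk, hzz, one_mul] at h3
    exact hHz h3
  refine ⟨MulEquiv.ofBijective f (Finite.injective_iff_bijective.mp hf), fun x => ?_⟩
  exact hHle (hα x)

theorem proj_aut_congr (α : MulAut E) {x y : E} (h : C.proj x = C.proj y) :
    C.proj (α x) = C.proj (α y) := by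
  have h1 : x⁻¹ * y ∈ Subgroup.center E := (C.proj_eq_zero _).mp (by
    rw [C.proj_mul, C.proj_inv, h]; exact funext fun i => CharTwo.add_self_eq_zero _)
  have h2 : α (x⁻¹ * y) ∈ Subgroup.center E := Subgroup.mem_center_iff.mpr fun u => by
    obtain ⟨u, rfl⟩ := α.surjective u
    rw [← map_mul, ← map_mul, Subgroup.mem_center_iff.mp h1 u]
  have h3 := (C.proj_eq_zero _).mpr h2
  rw [map_mul, map_inv, C.proj_mul, C.proj_inv] at h3
  rw [eq_neg_of_add_eq_zero_left h3]
  exact funext fun i => CharTwo.neg_eq _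

/-- A lift of a vector. -/
noncomputable def lift (v : Vec n) : E := Function.surjInv C.proj_surj v

theorem proj_lift (v : Vec n) : C.proj (C.lift v) = v := Function.surjInv_eq C.proj_surj v

/-- The linear map induced by an automorphism. -/
noncomputable def induced (α : MulAut E) : Vec n →ₗ[ZMod 2] Vec n :=
  (AddMonoidHom.mk' (fun v => C.proj (α (C.lift v))) fun u v => by
    rw [← C.proj_mul, ← map_mul]
    exact C.proj_aut_congr α (by rw [C.proj_lift, C.proj_mul, C.proj_lift, C.proj_lift])).toZModLinearMap 2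

theorem induced_proj (α : MulAut E) (x : E) : C.induced α (C.proj x) = C.proj (α x) :=
  C.proj_aut_congr α (C.proj_lift _)

theorem induced_mul (α β : MulAut E) (v : Vec n) : C.induced (α * β) v = C.induced α (C.induced β v) := by
  obtain ⟨x, rfl⟩ := C.proj_surj v
  rw [C.induced_proj, C.induced_proj, C.induced_proj]
  rfl

theorem induced_one (v : Vec n) : C.induced 1 v = v := by
  obtain ⟨x, rfl⟩ := C.proj_surj v
  rw [C.induced_proj]
  rfl

/-- The action of the automorphism group on the quotient by the centre. -/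
noncomputable def autHom : MulAut E →* C.Iso where
  toFun α := ⟨LinearEquiv.ofLinearMap (C.induced α) (C.induced α⁻¹)
      (LinearMap.ext fun v => by
        rw [LinearMap.comp_apply, ← C.induced_mul, mul_inv_cancel, C.induced_one]; rfl)
      (LinearMap.ext fun v => by
        rw [LinearMap.comp_apply, ← C.induced_mul, inv_mul_cancel, C.induced_one]; rfl), fun v => by
    obtain ⟨x, rfl⟩ := C.proj_surj v
    show C.form (C.induced α (C.proj x)) = C.form (C.proj x)
    rw [C.induced_proj]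
    have h : C.form (C.proj (α x)) = 0 ↔ C.form (C.proj x) = 0 := by
      rw [← C.sq_eq_one, ← C.sq_eq_one, ← map_mul, map_eq_one_iff α α.injective]
    rcases CfsgLib.F2Quad.zmod_two_cases (C.form (C.proj (α x))) with e | e <;>
      rcases CfsgLib.F2Quad.zmod_two_cases (C.form (C.proj x)) with e' | e' <;> simp_all⟩
  map_one' := Subtype.ext (LinearEquiv.ext C.induced_one)
  map_mul' α β := Subtype.ext (LinearEquiv.ext (C.induced_mul α β))

theorem autHom_apply (α : MulAut E) (x : E) : (C.autHom α).1 (C.proj x) = C.proj (α x) :=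
  C.induced_proj α x

theorem autHom_surjective [Finite E] : Function.Surjective C.autHom := fun g => by
  obtain ⟨α, hα⟩ := C.exists_graph g
  refine ⟨α, Subtype.ext (LinearEquiv.ext fun v => ?_)⟩
  obtain ⟨x, rfl⟩ := C.proj_surj v
  rw [C.autHom_apply, hα]

omit C in
theorem exists_pol_eq (L : Vec n →ₗ[ZMod 2] ZMod 2) : ∃ w, ∀ v, L v = pol n w v := by
  refine ⟨Sum.elim (fun i => L (Pi.single (.inr i) 1)) (fun i => L (Pi.single (.inl i) 1)), fun v => ?_⟩
  conv_lhs => rw [pi_eq_sum_univ' v]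
  rw [map_sum, Fintype.sum_sum_type, pol, ← Finset.sum_add_distrib]
  exact Finset.sum_congr rfl fun i _ => by simp [mul_comm, add_comm]

theorem autHom_ker : C.autHom.ker = Cfsg.Inn E := by
  classical
  ext α
  rw [MonoidHom.mem_ker]
  constructor
  · intro h
    have hα : ∀ x, C.proj (α x) = C.proj x := fun x => by rw [← C.autHom_apply, h]; rfl
    have hd : ∀ x, x⁻¹ * α x ∈ Subgroup.center E := fun x => (C.proj_eq_zero _).mp (by
      rw [C.proj_mul, C.proj_inv, hα]; exact funext fun i => CharTwo.add_self_eq_zero _)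
    let d : E → ZMod 2 := fun x => bit (x⁻¹ * α x)
    have hdmul : ∀ x y, d (x * y) = d x + d y := fun x y => by
      simp only [d]
      rw [← bit_mul C.centre_card (hd x) (hd y), map_mul, mul_inv_rev]
      congr 1
      have := Subgroup.mem_center_iff.mp (hd x) y⁻¹
      calc y⁻¹ * x⁻¹ * (α x * α y) = y⁻¹ * (x⁻¹ * α x) * α y := by group
        _ = x⁻¹ * α x * y⁻¹ * α y := by rw [this]
        _ = _ := by group
    have hdcen : ∀ c ∈ Subgroup.center E, d c = 0 := fun c hc => by
      simp only [d]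
      rw [bit_eq_zero, inv_mul_eq_one]
      refine (eq_of_centre_card C.centre_card ?_ hc (map_eq_one_iff α α.injective)).symm
      exact (C.proj_eq_zero _).mp (by rw [hα, C.proj_eq_zero]; exact hc)
    have hdc : ∀ x y, C.proj x = C.proj y → d x = d y := fun x y hxy => by
      have hc : x⁻¹ * y ∈ Subgroup.center E := (C.proj_eq_zero _).mp (by
        rw [C.proj_mul, C.proj_inv, hxy]; exact funext fun i => CharTwo.add_self_eq_zero _)
      have h1 := hdmul x (x⁻¹ * y)
      rw [mul_inv_cancel_left, hdcen _ hc, add_zero] at h1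
      exact h1.symm
    let L : Vec n →ₗ[ZMod 2] ZMod 2 := (AddMonoidHom.mk' (fun v => d (C.lift v)) fun u v => by
      rw [← hdmul]
      exact hdc _ _ (by rw [C.proj_lift, C.proj_mul, C.proj_lift, C.proj_lift])).toZModLinearMap 2
    obtain ⟨w, hw⟩ := exists_pol_eq L
    obtain ⟨a, rfl⟩ := C.proj_surj w
    refine ⟨a, MulEquiv.ext fun x => ?_⟩
    rw [MulAut.conj_apply]
    have h1 : d x = pol n (C.proj a) (C.proj x) := (hdc _ _ (C.proj_lift _)).symm.trans (hw (C.proj x))
    have h2 : x⁻¹ * (a * x * a⁻¹) ∈ Subgroup.center E := (C.proj_eq_zero _).mp (by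
      rw [C.proj_mul, C.proj_mul, C.proj_mul, C.proj_inv, C.proj_inv]
      exact funext fun i => by
        simp only [Pi.add_apply, Pi.zero_apply]
        linear_combination (C.proj x i + C.proj a i) * CharTwo.two_eq_zero (R := ZMod 2))
    have h3 : x⁻¹ * (a * x * a⁻¹) = x⁻¹ * α x := by
      refine eq_of_centre_card C.centre_card h2 (hd x) ?_
      rw [← bit_eq_zero (x⁻¹ * α x)]
      show _ ↔ d x = 0
      rw [h1, ← C.comm_eq_one, inv_mul_eq_one, commutatorElement_def, mul_inv_eq_one]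
      exact eq_comm
    exact mul_left_cancel h3
  · rintro ⟨a, rfl⟩
    refine Subtype.ext (LinearEquiv.ext fun v => ?_)
    obtain ⟨x, rfl⟩ := C.proj_surj v
    rw [C.autHom_apply, MulAut.conj_apply, C.proj_mul, C.proj_mul, C.proj_inv]
    exact funext fun i => by
      simp only [Pi.add_apply]
      show _ = C.proj x i
      linear_combination C.proj a i * CharTwo.two_eq_zero (R := ZMod 2)

/-- `Out E` is the isometry group of the square map. -/
noncomputable def outEquiv [Finite E] : Cfsg.Out E ≃* C.Iso :=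
  (QuotientGroup.quotientMulEquivOfEq C.autHom_ker.symm).trans
    (QuotientGroup.quotientKerEquivOfSurjective C.autHom C.autHom_surjective)

variable {ι : Type} [Fintype ι] [DecidableEq ι]

/-- Transport to matrices. -/
theorem iso_equiv_isometryGroup (Q : (ι → ZMod 2) → ZMod 2) (h : Vec n ≃ₗ[ZMod 2] (ι → ZMod 2))
    (hQ : ∀ v, C.form v = Q (h v)) : Nonempty (C.Iso ≃* Cfsg.isometryGroup (ZMod 2) Q) := by
  let φ : (Vec n ≃ₗ[ZMod 2] Vec n) ≃* Matrix.GeneralLinearGroup ι (ZMod 2) :=
    (LinearMap.GeneralLinearGroup.generalLinearEquiv (ZMod 2) (Vec n)).symm.trans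
      ((Units.mapEquiv (h.conjAlgEquiv (ZMod 2)).toMulEquiv).trans
        Matrix.GeneralLinearGroup.toLin.symm)
  have hφ : ∀ g u, (φ g : Matrix ι ι (ZMod 2)).mulVec u = h (g (h.symm u)) := fun g u => by
    show (LinearMap.toMatrix' _).mulVec u = _
    rw [LinearMap.toMatrix'_mulVec]
    rfl
  have hiff : ∀ g, φ g ∈ Cfsg.isometryGroup (ZMod 2) Q ↔ g ∈ C.Iso := fun g => by
    constructor
    · intro hg v
      have e := hg (h v) (h v)
      change Q ((φ g : Matrix ι ι (ZMod 2)).mulVec (h v)) = Q (h v) at e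
      rwa [hφ, LinearEquiv.symm_apply_apply, ← hQ, ← hQ] at e
    · intro hg u _
      show Q ((φ g : Matrix ι ι (ZMod 2)).mulVec u) = Q u
      rw [hφ, ← hQ, hg, hQ, LinearEquiv.apply_symm_apply]
  refine ⟨(φ.subgroupMap C.Iso).trans (MulEquiv.subgroupCongr ?_)⟩
  ext x
  constructor
  · rintro ⟨g, hg, rfl⟩; exact (hiff g).mpr hg
  · intro hx
    exact ⟨φ.symm x, (hiff _).mp (by rwa [φ.apply_symm_apply]), φ.apply_symm_apply x⟩

theorem exists_elementary_of_plus [Finite E] (hcard : Nat.card E = 2 ^ (2 * n + 1))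
    (h : CfsgLib.F2Quad.IsPlus n C.form) :
    ∃ A : Subgroup E, Cfsg.IsElementaryAbelian 2 A ∧ Nat.card A = 2 ^ (n + 1) := by
  obtain ⟨g, hg⟩ := h
  let P : E →* Multiplicative (Fin n → ZMod 2) :=
    MonoidHom.mk' (fun x => Multiplicative.ofAdd fun i => g (C.proj x) (.inr i)) fun x y => by
      rw [← ofAdd_add, C.proj_mul, map_add]; rfl
  have hP : Function.Surjective P := fun v => by
    obtain ⟨x, hx⟩ := C.proj_surj (g.symm (Sum.elim 0 v.toAdd))
    exact ⟨x, by simp [P, hx]⟩
  have hsq : ∀ x ∈ P.ker, x * x = 1 := fun x hx => by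
    rw [C.sq_eq_one, hg]
    have h1 : (fun i => g (C.proj x) (.inr i)) = 0 := congrArg Multiplicative.toAdd (MonoidHom.mem_ker.mp hx)
    exact Finset.sum_eq_zero fun i _ => by rw [congrFun h1 i]; simp
  refine ⟨P.ker, ⟨⟨⟨fun a b => ?_⟩⟩, fun a ha => by rw [pow_two]; exact hsq a ha⟩, ?_⟩
  · have i1 : ∀ a : P.ker, a⁻¹ = a := fun a =>
      Subtype.ext (inv_eq_of_mul_eq_one_right (hsq a.1 a.2))
    rw [← i1 (a * b), mul_inv_rev, i1, i1]
  · have h1 := P.ker.card_mul_index
    rw [Subgroup.index_ker, MonoidHom.range_eq_top.mpr hP, Subgroup.card_top, hcard] at h1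
    have h2 : Nat.card (Multiplicative (Fin n → ZMod 2)) = 2 ^ n := by
      rw [Nat.card_congr Multiplicative.toAdd, Nat.card_fun, Nat.card_zmod, Nat.card_fin]
    rw [h2] at h1
    refine Nat.eq_of_mul_eq_mul_right (Nat.two_pow_pos n) (h1.trans ?_)
    rw [← pow_add]; congr 1; omega

open CfsgLib.ExtraTwoTypes in
theorem not_elementary_of_minus [Finite E] (m : ℕ) (hm : n = m + 1) (h : CfsgLib.F2Quad.IsMinus n C.form)
    (A : Subgroup E) (hA : Cfsg.IsElementaryAbelian 2 A) : Nat.card A < 2 ^ (n + 1) := by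
  classical
  subst hm
  let e : V m ≃ₗ[ZMod 2] Vec (m + 1) := (LinearEquiv.sumArrowLequivProdArrow _ _ (ZMod 2) (ZMod 2)).symm
  let w₁ : Vec (m + 1) := Sum.elim (Pi.single 0 1) (Pi.single 0 1)
  have hw₁ : Cfsg.quadFormPlus (m + 1) (ZMod 2) w₁ = 1 := by
    simp [Cfsg.quadFormPlus, w₁, Pi.single_apply]
  obtain ⟨g₁, hg₁⟩ := h
  obtain ⟨g₂, hg₂⟩ := CfsgLib.F2Quad.qw_isMinus (m + 1) (Nat.succ_pos m) hw₁
  let T : Vec (m + 1) ≃ₗ[ZMod 2] V m := (g₁.trans g₂.symm).trans e.symm
  have hbeta : ∀ u : V m, beta 1 u u = qw (m + 1) w₁ (e u) := fun u => by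
    have e1 : ∀ i, e u (.inl i) = u.1 i := fun _ => rfl
    have e2 : ∀ i, e u (.inr i) = u.2 i := fun _ => rfl
    simp [beta, qw, pol, Cfsg.quadFormPlus, w₁, e1, e2, Pi.single_apply, Finset.sum_add_distrib,
      (show ∀ a : ZMod 2, a * a = a by decide)]
  have hT : ∀ v, beta 1 (T v) (T v) = C.form v := fun v => by
    rw [hbeta, hg₁]
    simp only [T, LinearEquiv.trans_apply, LinearEquiv.apply_symm_apply]
    rw [hg₂, LinearEquiv.apply_symm_apply]
  let W : Finset (V m) := Finset.univ.filter fun u => ∃ a ∈ A, T (C.proj a) = u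
  have hW : Singular 1 W := by
    refine ⟨?_, ?_, ?_⟩
    · exact Finset.mem_filter.2 ⟨Finset.mem_univ _, 1, one_mem _, by rw [C.proj_one, map_zero]⟩
    · intro u hu v hv
      obtain ⟨a, ha, rfl⟩ := (Finset.mem_filter.1 hu).2
      obtain ⟨b, hb, rfl⟩ := (Finset.mem_filter.1 hv).2
      exact Finset.mem_filter.2 ⟨Finset.mem_univ _, a * b, mul_mem ha hb, by rw [C.proj_mul, map_add]⟩
    · intro u hu
      obtain ⟨a, ha, rfl⟩ := (Finset.mem_filter.1 hu).2
      rw [hT, ← C.sq_eq_one, ← pow_two]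
      exact hA.2 a ha
  let P : A →* Multiplicative (V m) := MonoidHom.mk' (fun a => Multiplicative.ofAdd (T (C.proj a.1))) fun a b => by
    rw [← ofAdd_add, ← map_add, ← C.proj_mul]; rfl
  have h1 := P.ker.card_mul_index
  rw [Subgroup.index_ker] at h1
  have hk : Nat.card P.ker ≤ 2 := by
    refine le_of_le_of_eq ?_ C.centre_card
    refine Nat.card_le_card_of_injective (fun a : P.ker => (⟨a.1.1, (C.proj_eq_zero _).mp ?_⟩ : Subgroup.center E)) ?_
    · exact T.map_eq_zero_iff.mp (congrArg Multiplicative.toAdd (MonoidHom.mem_ker.mp a.2))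
    · intro a b hab
      simp only [Subtype.mk.injEq] at hab
      exact Subtype.ext (Subtype.ext hab)
  have hr : Nat.card P.range ≤ W.card := by
    rw [← Nat.card_eq_finsetCard]
    refine Nat.card_le_card_of_injective (fun a : P.range => (⟨a.1.toAdd, ?_⟩ : W)) ?_
    · obtain ⟨b, hb⟩ := a.2
      exact Finset.mem_filter.2 ⟨Finset.mem_univ _, b.1, b.2, congrArg Multiplicative.toAdd hb⟩
    · intro a b hab
      simp only [Subtype.mk.injEq] at hab
      exact Subtype.ext (Multiplicative.toAdd.injective hab)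
  have h2 := hW.card_le
  have h3 := hW.card_ne
  have h4 := Nat.mul_le_mul hk hr
  rw [h1] at h4
  rw [pow_succ]
  omega

end Coords

/-- The outer automorphism group of an extraspecial 2-group. -/
theorem out_equiv_isometryGroup [Finite E] (hE : Cfsg.IsExtraspecial 2 E) (n : ℕ) (hn : 1 ≤ n)
    (hcard : Nat.card E = 2 ^ (2 * n + 1)) :
    ((∃ A : Subgroup E, Cfsg.IsElementaryAbelian 2 A ∧ Nat.card A = 2 ^ (n + 1)) →
        Nonempty (Cfsg.Out E ≃* Cfsg.isometryGroup (ZMod 2) (Cfsg.quadFormPlus n (ZMod 2)))) ∧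
      ((¬ ∃ A : Subgroup E, Cfsg.IsElementaryAbelian 2 A ∧ Nat.card A = 2 ^ (n + 1)) →
        Nonempty (Cfsg.Out E ≃* Cfsg.isometryGroup (ZMod 2) (Cfsg.quadFormMinus (n - 1) (ZMod 2) 1 1))) := by
  obtain ⟨C⟩ := exists_coords hE n hcard
  obtain ⟨w, hw⟩ := CfsgLib.F2Quad.exists_eq_qw n C.form_qf
  rcases CfsgLib.F2Quad.zmod_two_cases (Cfsg.quadFormPlus n (ZMod 2) w) with h0 | h1
  · have hp : CfsgLib.F2Quad.IsPlus n C.form := hw ▸ CfsgLib.F2Quad.qw_isPlus n h0
    refine ⟨fun _ => ?_, fun hno => absurd (C.exists_elementary_of_plus hcard hp) hno⟩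
    obtain ⟨g, hg⟩ := hp
    obtain ⟨e⟩ := C.iso_equiv_isometryGroup _ g hg
    exact ⟨C.outEquiv.trans e⟩
  · have hmn : CfsgLib.F2Quad.IsMinus n C.form := hw ▸ CfsgLib.F2Quad.qw_isMinus n hn h1
    refine ⟨fun ⟨A, hA, hAc⟩ => ?_, fun _ => ?_⟩
    · have := C.not_elementary_of_minus (n - 1) (by omega) hmn A hA
      omega
    · obtain ⟨g, hg⟩ := hmn
      obtain ⟨e⟩ := C.iso_equiv_isometryGroup _ g hg
      exact ⟨C.outEquiv.trans e⟩

end CfsgLib.Extraspecial
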