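import Mathlib

/-!
# Eigenspace bounds from commutation rules

Linear algebra used for bounding the eigenspaces of elements normalising an absolutely irreducible group of
symplectic type.
-/

namespace CfsgLib.EigBound

open Module

variable {F V : Type*} [Field F] [AddCommGroup V] [Module F V] [FiniteDimensional F V]

/-- The dimensions of eigenspaces for distinct values, cut by a subspace, add up to at most its dimension. -/
theorem sum_finrank_inf_le (f : End F V) (E : Submodule F V) (s : Finset F) :
    ∑ a ∈ s, finrank F ↥(E ⊓ End.eigenspace f a) ≤ finrank F E := by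
  classical
  suffices h : ∑ a ∈ s, finrank F ↥(E ⊓ End.eigenspace f a) ≤
      finrank F ↥(s.sup fun a => E ⊓ End.eigenspace f a) by
    exact h.trans (Submodule.finrank_mono (Finset.sup_le fun a _ => inf_le_left))
  induction s using Finset.induction with
  | empty => simp
  | @insert a t ha ih =>
    rw [Finset.sum_insert ha, Finset.sup_insert]
    have hdisj : Disjoint (E ⊓ End.eigenspace f a) (t.sup fun b => E ⊓ End.eigenspace f b) := by
      refine Disjoint.mono inf_le_right ?_ ((End.eigenspaces_iSupIndep f a))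
      rw [Finset.sup_le_iff]
      intro b hb
      exact inf_le_right.trans (le_iSup₂ (f := fun j (_ : j ≠ a) => End.eigenspace f j) b
        (fun h => ha (h ▸ hb)))
    have h := Submodule.finrank_sup_add_finrank_inf_eq (E ⊓ End.eigenspace f a)
      (t.sup fun b => E ⊓ End.eigenspace f b)
    rw [hdisj.eq_bot, finrank_bot, add_zero] at h
    rw [h]
    omega

/-- An injective map carrying `E₁` into `E₂` bounds the dimension. -/
theorem finrank_le_of_maps (u : End F V) (hu : Function.Injective u) (A B : Submodule F V)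
    (h : ∀ v ∈ A, u v ∈ B) : finrank F A ≤ finrank F B := by
  have h1 : finrank F ↥(A.map u) = finrank F A :=
    (Submodule.equivMapOfInjective u hu A).finrank_eq.symm
  rw [← h1]
  exact Submodule.finrank_mono (by rintro _ ⟨v, hv, rfl⟩; exact h v hv)

/-- If `u` shifts the eigenspaces of `f` inside `E` by a primitive `r`-th root of unity, each non-zero
eigenvalue has at most the `r`-th part of the dimension of `E`. -/
theorem mul_finrank_le_of_shift (f u : End F V) (hu : Function.Injective u) (E : Submodule F V)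
    (hE : ∀ v ∈ E, u v ∈ E) {r : ℕ} {κ : F} (hκ : IsPrimitiveRoot κ r)
    (h : ∀ (b : F), ∀ v ∈ E, f v = b • v → f (u v) = (κ * b) • u v) {a : F} (ha : a ≠ 0) :
    r * finrank F ↥(E ⊓ End.eigenspace f a) ≤ finrank F E := by
  classical
  have hmono : ∀ i : ℕ, finrank F ↥(E ⊓ End.eigenspace f a) ≤
      finrank F ↥(E ⊓ End.eigenspace f (κ ^ i * a)) := by
    intro i
    induction i with
    | zero => rw [pow_zero, one_mul]
    | succ i ih =>
      refine ih.trans (finrank_le_of_maps u hu _ _ ?_)
      intro v hv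
      rw [Submodule.mem_inf, End.mem_eigenspace_iff] at hv ⊢
      refine ⟨hE v hv.1, ?_⟩
      rw [h _ v hv.1 hv.2, pow_succ]
      congr 1
      ring
  have hinj : Set.InjOn (fun i : ℕ => κ ^ i * a) (Finset.range r : Set ℕ) := by
    intro i hi j hj hij
    simp only [Finset.coe_range, Set.mem_Iio] at hi hj
    exact hκ.pow_inj hi hj (mul_right_cancel₀ ha hij)
  calc r * finrank F ↥(E ⊓ End.eigenspace f a)
      = ∑ _i ∈ Finset.range r, finrank F ↥(E ⊓ End.eigenspace f a) := by simp
    _ ≤ ∑ i ∈ Finset.range r, finrank F ↥(E ⊓ End.eigenspace f (κ ^ i * a)) :=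
        Finset.sum_le_sum fun i _ => hmono i
    _ = ∑ b ∈ (Finset.range r).image (fun i => κ ^ i * a), finrank F ↥(E ⊓ End.eigenspace f b) :=
        (Finset.sum_image (f := fun b => finrank F ↥(E ⊓ End.eigenspace f b)) hinj).symm
    _ ≤ finrank F E := sum_finrank_inf_le f E _

/-- The case `E = V` of `mul_finrank_le_of_shift`. -/
theorem mul_finrank_le_top (f u : End F V) (hu : Function.Injective u) {r : ℕ} {κ : F}
    (hκ : IsPrimitiveRoot κ r) (h : ∀ v, f (u v) = κ • u (f v)) {a : F} (ha : a ≠ 0) :
    r * finrank F ↥(End.eigenspace f a) ≤ finrank F V := by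
  have h1 := mul_finrank_le_of_shift f u hu ⊤ (fun v _ => Submodule.mem_top) hκ
    (fun b v _ hv => by rw [h v, hv, map_smul, smul_smul]) ha
  rwa [top_inf_eq, finrank_top] at h1

/-- The part of an `f`-stable subspace seen by a commuting `y` with `y ^ r = 1` splits. -/
theorem finrank_le_sum_eigen (y : End F V) {r : ℕ} {κ : F} (hκ : IsPrimitiveRoot κ r)
    (hr : (r : F) ≠ 0) (hy : y ^ r = 1) (W : Submodule F V) (hW : ∀ v ∈ W, y v ∈ W) :
    finrank F W ≤ ∑ j ∈ Finset.range r, finrank F ↥(W ⊓ End.eigenspace y (κ ^ j)) := by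
  classical
  have hr0 : r ≠ 0 := by rintro rfl; exact hr (by simp)
  have hκ0 : κ ≠ 0 := hκ.ne_zero hr0
  let A : ℕ → Submodule F V := fun j => W ⊓ End.eigenspace y (κ ^ j)
  have hsup : ∀ s : Finset ℕ, finrank F ↥(s.sup A) ≤ ∑ j ∈ s, finrank F ↥(A j) := by
    intro s
    induction s using Finset.induction with
    | empty => simp
    | @insert a t ha ih =>
      rw [Finset.sum_insert ha, Finset.sup_insert]
      have h := Submodule.finrank_sup_add_finrank_inf_eq (A a) (t.sup A)
      omega
  refine le_trans (Submodule.finrank_mono ?_) (hsup _)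
  intro w hw
  have hpow : ∀ i : ℕ, (y ^ i) w ∈ W := by
    intro i
    induction i with
    | zero => simpa
    | succ i ih => rw [pow_succ', Module.End.mul_apply]; exact hW _ ih
  -- the projections
  let P : ℕ → V := fun j => ∑ i ∈ Finset.range r, ((κ ^ j)⁻¹) ^ i • (y ^ i) w
  have hPmem : ∀ j, P j ∈ W := fun j =>
    Submodule.sum_mem _ fun i _ => Submodule.smul_mem _ _ (hpow i)
  have hPeig : ∀ j, y (P j) = κ ^ j • P j := by
    intro j
    let g : ℕ → V := fun i => ((κ ^ j)⁻¹) ^ i • (y ^ i) w
    have hshift : ∀ i, y (g i) = κ ^ j • g (i + 1) := by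
      intro i
      show y (_ • _) = _
      rw [map_smul, ← Module.End.mul_apply, ← pow_succ', smul_smul, pow_succ ((κ ^ j)⁻¹),
        ← mul_assoc, mul_comm (κ ^ j), mul_assoc, mul_inv_cancel₀ (pow_ne_zero _ hκ0), mul_one]
    have hper : g r = g 0 := by
      show _ • _ = _ • _
      rw [hy, pow_zero, pow_zero, inv_pow, ← pow_mul, mul_comm j r, pow_mul, hκ.pow_eq_one,
        one_pow, inv_one]
    show y (∑ i ∈ Finset.range r, g i) = κ ^ j • ∑ i ∈ Finset.range r, g i
    rw [map_sum, Finset.smul_sum]
    simp only [hshift]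
    rw [← Finset.smul_sum, ← Finset.smul_sum]
    congr 1
    have h1 := Finset.sum_range_succ g r
    have h2 := Finset.sum_range_succ' g r
    rw [h1, hper] at h2
    exact (add_right_cancel h2).symm
  have hsum : ∑ j ∈ Finset.range r, P j = (r : F) • w := by
    show ∑ j ∈ Finset.range r, ∑ i ∈ Finset.range r, _ = _
    rw [Finset.sum_comm]
    simp only [← Finset.sum_smul]
    rw [Finset.sum_eq_single 0]
    · simp
    · intro i hi hi0
      have : ∑ j ∈ Finset.range r, ((κ ^ j)⁻¹) ^ i = 0 := by
        have e : ∀ j : ℕ, ((κ ^ j)⁻¹) ^ i = ((κ ^ i)⁻¹) ^ j := fun j => by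
          rw [inv_pow, inv_pow, ← pow_mul, ← pow_mul, mul_comm]
        simp only [e]
        have h1 : (κ ^ i)⁻¹ ≠ 1 := by
          rw [Ne, inv_eq_one]
          exact hκ.pow_ne_one_of_pos_of_lt hi0 (Finset.mem_range.mp hi)
        rw [geom_sum_eq h1, inv_pow, ← pow_mul, mul_comm, pow_mul, hκ.pow_eq_one]
        simp
      rw [this, zero_smul]
    · intro h
      exact absurd (Finset.mem_range.mpr (Nat.pos_of_ne_zero hr0)) h
  have hw' : w = (r : F)⁻¹ • ∑ j ∈ Finset.range r, P j := by
    rw [hsum, smul_smul, inv_mul_cancel₀ hr, one_smul]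
  rw [hw']
  refine Submodule.smul_mem _ _ (Submodule.sum_mem _ fun j hj => ?_)
  exact Finset.le_sup (f := A) hj ⟨hPmem j, End.mem_eigenspace_iff.mpr (hPeig j)⟩

/-- A primitive root of prime order from a single non-trivial root. -/
theorem isPrimitiveRoot_of {r : ℕ} (hr : r.Prime) {κ : F} (h : κ ^ r = 1) (h1 : κ ≠ 1) :
    IsPrimitiveRoot κ r := by
  have : orderOf κ = r := by
    haveI := Fact.mk hr
    exact orderOf_eq_prime h h1
  exact this ▸ IsPrimitiveRoot.orderOf κ

theorem natCast_ne_zero_of {r : ℕ} (hr : r.Prime) {κ : F} (h : κ ^ r = 1) (h1 : κ ≠ 1) :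
    (r : F) ≠ 0 := by
  intro h0
  haveI := Fact.mk hr
  haveI : CharP F r := (CharP.charP_iff_prime_eq_zero hr).mpr h0
  apply h1
  have h2 : (κ - 1) ^ r = 0 := by rw [sub_pow_char, h, one_pow, sub_self]
  exact sub_eq_zero.mp (pow_eq_zero_iff hr.ne_zero |>.mp h2)

/-- Each value is taken at most twice by `j ↦ j(j-1)/2` modulo an odd prime. -/
theorem card_fibre_le_two {r : ℕ} (hr : r.Prime) (hr2 : r ≠ 2) (j₀ : ℕ) :
    ((Finset.range r).filter fun j : ℕ => (r : ℤ) ∣ ((j : ℤ) * (j - 1) - (j₀ : ℤ) * (j₀ - 1))).card ≤ 2 := by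
  classical
  let T : Finset ℕ := {j₀ % r, ((1 - (j₀ : ℤ)) % r).toNat}
  refine le_trans (Finset.card_le_card (t := T) ?_) Finset.card_le_two
  intro j hj
  simp only [Finset.mem_filter, Finset.mem_range] at hj
  obtain ⟨hjr, hdvd⟩ := hj
  have hmod : (j : ℤ) % r = j := Int.emod_eq_of_lt (by positivity) (by exact_mod_cast hjr)
  have e : (j : ℤ) * (j - 1) - (j₀ : ℤ) * (j₀ - 1) = ((j : ℤ) - j₀) * ((j : ℤ) - (1 - j₀)) := by
    ring
  rw [e] at hdvd
  rcases (Nat.prime_iff_prime_int.mp hr).dvd_mul.mp hdvd with h | h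
  · have h1 : (j : ℤ) % r = (j₀ : ℤ) % r := (Int.emod_eq_emod_iff_emod_sub_eq_zero).mpr
      (Int.emod_eq_zero_of_dvd h)
    rw [hmod] at h1
    simp only [T, Finset.mem_insert, Finset.mem_singleton]
    left
    exact_mod_cast h1
  · have h1 : (j : ℤ) % r = (1 - (j₀ : ℤ)) % r := (Int.emod_eq_emod_iff_emod_sub_eq_zero).mpr
      (Int.emod_eq_zero_of_dvd h)
    rw [hmod] at h1
    simp only [T, Finset.mem_insert, Finset.mem_singleton]
    right
    omega

/-- The transvection case: `g x = x y g` with `g y = y g`, `y ^ r = 1` and `x y = κ y x`. -/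
theorem two_mul_finrank_le_of_transvection (g x y u : End F V) {r : ℕ} (hr : r.Prime) (hr5 : 5 ≤ r)
    (hx : Function.Injective x) (hu : Function.Injective u) {ζ : F} (hζ : IsPrimitiveRoot ζ r)
    (hrF : (r : F) ≠ 0) (hy : y ^ r = 1) (hgy : g * y = y * g) (hgx : g * x = x * y * g)
    {κ : F} (hκ : κ ^ r = 1) (hxy : y * x = κ • (x * y)) (huy : y * u = ζ • (u * y))
    {c : F} (hc : c ≠ 0) :
    2 * finrank F ↥(End.eigenspace g c) ≤ finrank F V := by
  classical
  set W := End.eigenspace g c with hWdef
  have hgy' : ∀ v, g (y v) = y (g v) := fun v => by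
    rw [← Module.End.mul_apply, hgy, Module.End.mul_apply]
  have hgx' : ∀ v, g (x v) = x (y (g v)) := fun v => by
    rw [← Module.End.mul_apply, hgx, Module.End.mul_apply, Module.End.mul_apply]
  have hWy : ∀ v ∈ W, y v ∈ W := by
    intro v hv
    rw [hWdef, End.mem_eigenspace_iff] at hv ⊢
    rw [hgy', hv, map_smul]
  have hE : ∀ j : ℕ, r * finrank F ↥(End.eigenspace y (ζ ^ j)) ≤ finrank F V := fun j =>
    mul_finrank_le_top y u hu hζ (fun v => by
      rw [← Module.End.mul_apply, huy, LinearMap.smul_apply, Module.End.mul_apply])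
      (pow_ne_zero _ (hζ.ne_zero hr.ne_zero))
  have hsplit := finrank_le_sum_eigen y hζ hrF hy W hWy
  -- how `x` moves the pieces
  have hmove : ∀ (b η : F), ∀ v, g v = b • v → y v = η • v →
      g (x v) = (η * b) • x v ∧ y (x v) = (κ * η) • x v := by
    intro b η v hb hη
    constructor
    · rw [hgx', hb, map_smul, hη, smul_smul, map_smul, mul_comm]
    · rw [← Module.End.mul_apply, hxy, LinearMap.smul_apply, Module.End.mul_apply, hη, map_smul,
        smul_smul]
  by_cases hκ1 : κ = 1
  · subst hκ1
    -- all pieces but one spread over `r` eigenvalues of `g`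
    have hsmall : ∀ j ∈ Finset.range r, j ≠ 0 →
        r * finrank F ↥(W ⊓ End.eigenspace y (ζ ^ j)) ≤ finrank F ↥(End.eigenspace y (ζ ^ j)) := by
      intro j hj hj0
      have hcop : Nat.Coprime j r := (hr.coprime_iff_not_dvd.mpr (fun h =>
        Nat.not_le_of_lt (Finset.mem_range.mp hj) (Nat.le_of_dvd (Nat.pos_of_ne_zero hj0) h))).symm
      have hη : IsPrimitiveRoot (ζ ^ j) r := hζ.pow_of_coprime j hcop
      rw [inf_comm]
      refine mul_finrank_le_of_shift g x hx _ ?_ hη ?_ hc
      · intro v hv
        rw [End.mem_eigenspace_iff] at hv ⊢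
        rw [← Module.End.mul_apply, hxy, one_smul, Module.End.mul_apply, hv, map_smul]
      · intro b v hv hb
        exact (hmove b (ζ ^ j) v hb (End.mem_eigenspace_iff.mp hv)).1
    have h0 : finrank F ↥(W ⊓ End.eigenspace y (ζ ^ 0)) ≤ finrank F ↥(End.eigenspace y (ζ ^ 0)) :=
      Submodule.finrank_mono inf_le_right
    have hbound : r * (r * finrank F W) ≤ (2 * r - 1) * finrank F V := by
      have h1 : r * (r * finrank F W) ≤
          ∑ j ∈ Finset.range r, r * (r * finrank F ↥(W ⊓ End.eigenspace y (ζ ^ j))) := by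
        rw [← Finset.mul_sum, ← Finset.mul_sum]
        exact Nat.mul_le_mul_left r (Nat.mul_le_mul_left r hsplit)
      refine h1.trans ?_
      have h2 : ∀ j ∈ Finset.range r, r * (r * finrank F ↥(W ⊓ End.eigenspace y (ζ ^ j))) ≤
          (if j = 0 then r else 1) * finrank F V := by
        intro j hj
        split_ifs with h
        · subst h
          exact Nat.mul_le_mul_left r (le_trans (Nat.mul_le_mul_left r h0) (hE 0))
        · rw [one_mul]
          exact le_trans (Nat.mul_le_mul_left r (hsmall j hj h)) (hE j)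
      refine (Finset.sum_le_sum h2).trans ?_
      rw [← Finset.sum_mul]
      refine Nat.mul_le_mul_right _ ?_
      rw [Finset.sum_ite, Finset.sum_const, Finset.sum_const, smul_eq_mul, smul_eq_mul, mul_one,
        Finset.filter_eq', if_pos (Finset.mem_range.mpr hr.pos), Finset.card_singleton, one_mul,
        Finset.filter_ne', Finset.card_erase_of_mem (Finset.mem_range.mpr hr.pos), Finset.card_range]
      omega
    by_contra hcon
    push_neg at hcon
    have h1 : r * r * (finrank F V + 1) ≤ r * r * (2 * finrank F W) := Nat.mul_le_mul_left _ hcon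
    have h2 : 2 * (2 * r - 1) * finrank F V ≤ r * r * finrank F V :=
      Nat.mul_le_mul_right _ (by
        have : 5 * r ≤ r * r := Nat.mul_le_mul_right r hr5
        omega)
    nlinarith
  · have hκp : IsPrimitiveRoot κ r := isPrimitiveRoot_of hr hκ hκ1
    have hsplit' := finrank_le_sum_eigen y hκp hrF hy W hWy
    -- transport every piece to the fixed space of `y`
    let s : ℕ → ℕ := fun j => ∑ i ∈ Finset.range j, i
    have htrans : ∀ j : ℕ, ∀ b : F, ∀ k : ℕ, k + j ≥ j →
        finrank F ↥(End.eigenspace g b ⊓ End.eigenspace y (κ ^ k)) ≤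
          finrank F ↥(End.eigenspace g (κ ^ (j * k + s j) * b) ⊓ End.eigenspace y (κ ^ (k + j))) := by
      intro j
      induction j with
      | zero => intro b k _; rw [show 0 * k + s 0 = 0 by simp [s], pow_zero, one_mul]; rfl
      | succ j ih =>
        intro b k _
        refine (ih b k (by omega)).trans (finrank_le_of_maps x hx _ _ ?_)
        intro v hv
        rw [Submodule.mem_inf, End.mem_eigenspace_iff, End.mem_eigenspace_iff] at hv ⊢
        have h := hmove _ _ v hv.1 hv.2
        constructor
        · rw [h.1]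
          congr 1
          simp only [s, Finset.sum_range_succ]
          rw [← mul_assoc, ← pow_add]
          congr 2
          ring
        · rw [h.2, ← pow_succ']
          rfl
    let a : ℕ → ℕ := fun j => finrank F ↥(W ⊓ End.eigenspace y (κ ^ j))
    let val : ℕ → F := fun j => κ ^ ((r - j) * j + s (r - j)) * c
    have hle : ∀ j ∈ Finset.range r,
        a j ≤ finrank F ↥(End.eigenspace y 1 ⊓ End.eigenspace g (val j)) := by
      intro j hj
      have h := htrans (r - j) c j (by omega)
      rw [show j + (r - j) = r by have := Finset.mem_range.mp hj; omega, hκp.pow_eq_one] at h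
      rw [inf_comm (End.eigenspace y 1)]
      exact h
    have hfib : ∀ b ∈ (Finset.range r).image val,
        ((Finset.range r).filter fun j => val j = b).card ≤ 2 := by
      intro b hb
      obtain ⟨j₀, hj₀, rfl⟩ := Finset.mem_image.mp hb
      refine le_trans (Finset.card_le_card ?_) (card_fibre_le_two hr (by omega) j₀)
      intro j hj
      simp only [Finset.mem_filter, Finset.mem_range] at hj hj₀ ⊢
      refine ⟨hj.1, ?_⟩
      have h1 : κ ^ ((r - j) * j + s (r - j)) = κ ^ ((r - j₀) * j₀ + s (r - j₀)) :=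
        mul_right_cancel₀ hc hj.2
      rw [← pow_mod_orderOf, ← pow_mod_orderOf κ ((r - j₀) * j₀ + s (r - j₀)), ← hκp.eq_orderOf] at h1
      have h1 := (Int.natCast_modEq_iff.mpr (hκp.pow_inj (Nat.mod_lt _ hr.pos) (Nat.mod_lt _ hr.pos) h1)).dvd
      have hs : ∀ m : ℕ, 2 * (s m : ℤ) = (m : ℤ) * ((m : ℤ) - 1) := by
        intro m
        induction m with
        | zero => simp [s]
        | succ m ih =>
          simp only [s, Finset.sum_range_succ] at ih ⊢
          push_cast at ih ⊢
          linarith
      have hval : ∀ i : ℕ, i ≤ r → 2 * ((((r - i) * i + s (r - i) : ℕ)) : ℤ) =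
          (r : ℤ) * ((r : ℤ) - 1) - (i : ℤ) * ((i : ℤ) - 1) := by
        intro i hi
        push_cast [Nat.cast_sub hi]
        have := hs (r - i)
        rw [Nat.cast_sub hi] at this
        linarith
      have h2 := h1.mul_left 2
      rw [mul_sub, hval j₀ hj₀.le, hval j hj.1.le] at h2
      have e : (j : ℤ) * ((j : ℤ) - 1) - (j₀ : ℤ) * ((j₀ : ℤ) - 1) =
          ((r : ℤ) * ((r : ℤ) - 1) - (j₀ : ℤ) * ((j₀ : ℤ) - 1)) -
            ((r : ℤ) * ((r : ℤ) - 1) - (j : ℤ) * ((j : ℤ) - 1)) := by ring
      rw [e]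
      exact h2
    have hsum : finrank F W ≤ 2 * finrank F ↥(End.eigenspace y (1 : F)) := by
      refine hsplit'.trans ((Finset.sum_le_sum hle).trans ?_)
      rw [← Finset.sum_fiberwise_of_maps_to (g := val) (t := (Finset.range r).image val)
        (fun j hj => Finset.mem_image_of_mem val hj)]
      refine le_trans (Finset.sum_le_sum (g := fun b =>
        2 * finrank F ↥(End.eigenspace y 1 ⊓ End.eigenspace g b)) ?_) ?_
      · intro b hb
        rw [Finset.sum_congr rfl (g := fun _ => finrank F ↥(End.eigenspace y 1 ⊓ End.eigenspace g b))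
          (fun j hj => by rw [(Finset.mem_filter.mp hj).2]), Finset.sum_const, smul_eq_mul]
        exact Nat.mul_le_mul_right _ (hfib b hb)
      · rw [← Finset.mul_sum]
        exact Nat.mul_le_mul_left 2 (sum_finrank_inf_le g _ _)
    have h1 := hE 0
    rw [pow_zero] at h1
    nlinarith

end CfsgLib.EigBound
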