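import Cfsg.Prelude.Def_GeometricClasses
import Cfsg.Agent.Lib.Extraspecial.EigenBound

/-!
# Eigenspaces of elements normalising a group of symplectic type

`R ≤ GL_n(F)` has scalar commutators of `r`-th power one and only scalars commute with it; `g` normalises
`R ⊔ scalars`, has prime order and is not scalar.
-/

namespace CfsgLib.EigBound

open Module
open scoped commutatorElement

variable {F : Type*} [Field F] {n : ℕ}

local notation "GLn" => Matrix.GeneralLinearGroup (Fin n) F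
local notation "Vn" => (Fin n → F)

/-- The linear map of an invertible matrix. -/
noncomputable def ev : GLn →* End F Vn :=
  (Matrix.toLinAlgEquiv' : Matrix (Fin n) (Fin n) F ≃ₐ[F] _).toAlgHom.toMonoidHom.comp
    (Units.coeHom (Matrix (Fin n) (Fin n) F))

theorem ev_eq (g : GLn) : ev g = Matrix.toLin' (g : Matrix (Fin n) (Fin n) F) := rfl

theorem ev_injective : Function.Injective (ev : GLn → End F Vn) := fun a b h =>
  Units.ext ((Matrix.toLinAlgEquiv' : Matrix (Fin n) (Fin n) F ≃ₐ[F] _).injective h)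

theorem ev_apply_injective (g : GLn) : Function.Injective (ev g) := by
  intro v w h
  have h1 := congrArg (ev g⁻¹) h
  rwa [← End.mul_apply, ← End.mul_apply, ← map_mul, inv_mul_cancel, map_one, End.one_apply,
    End.one_apply] at h1

/-- A scalar matrix acts as a multiple of the identity. -/
theorem exists_ev_of_scalar {s : GLn} (hs : s ∈ Cfsg.Geo.scalars (Fin n) F) :
    ∃ κ : F, ev s = κ • (1 : End F Vn) := by
  obtain ⟨c, hc⟩ := (Cfsg.Geo.mem_scalars_iff s).mp hs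
  refine ⟨(c : F), ?_⟩
  show Matrix.toLinAlgEquiv' (s : Matrix (Fin n) (Fin n) F) = _
  rw [hc, map_smul, map_one]

theorem scalar_comm {s : GLn} (hs : s ∈ Cfsg.Geo.scalars (Fin n) F) (g : GLn) : s * g = g * s := by
  obtain ⟨c, hc⟩ := (Cfsg.Geo.mem_scalars_iff s).mp hs
  exact Units.ext (by rw [Units.val_mul, Units.val_mul, hc]; simp)

/-- If `a b = s b a` for a non-trivial scalar `s` with `s ^ r = 1`, the rule in terms of maps. -/
theorem exists_rule {r : ℕ} {a b s : GLn} (hs : s ∈ Cfsg.Geo.scalars (Fin n) F) (hsr : s ^ r = 1)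
    (h : a * b = s * (b * a)) (hn : 0 < n) :
    ∃ κ : F, κ ^ r = 1 ∧ ev a * ev b = κ • (ev b * ev a) ∧ (κ = 1 → s = 1) := by
  obtain ⟨κ, hκ⟩ := exists_ev_of_scalar hs
  haveI : Nonempty (Fin n) := ⟨⟨0, hn⟩⟩
  refine ⟨κ, ?_, ?_, fun h1 => ev_injective (by rw [hκ, h1, one_smul, map_one])⟩
  · have h1 : ev (s ^ r) = κ ^ r • (1 : End F Vn) := by rw [map_pow, hκ, smul_pow, one_pow]
    rw [hsr, map_one] at h1
    have h2 := congrArg (fun f : End F Vn => f (fun _ => 1) ⟨0, hn⟩) h1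
    simp only [End.one_apply, LinearMap.smul_apply, Pi.smul_apply, smul_eq_mul, mul_one] at h2
    exact h2.symm
  · rw [← map_mul, h, map_mul, map_mul, hκ, smul_mul_assoc, one_mul]

section Ring

variable {E : Type*} [Ring E]

theorem pow_prime_pow_eq_one {r : ℕ} (hr : r.Prime) (hr0 : (r : E) = 0) (U : E) (k : ℕ)
    (h : (U - 1) ^ (r ^ k) = 0) : U ^ (r ^ k) = 1 := by
  obtain ⟨q, hq⟩ := (Commute.one_right (U - 1)).exists_add_pow_prime_pow_eq hr k
  rw [sub_add_cancel, h, one_pow, hr0] at hq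
  simpa using hq

theorem sub_one_pow_eq_zero {r : ℕ} (hr : r.Prime) (hr0 : (r : E) = 0) (U : E) (h : U ^ r = 1) :
    (U - 1) ^ r = 0 := by
  obtain ⟨q, hq⟩ := (Commute.one_right (U - 1)).exists_add_pow_prime_pow_eq hr 1
  rw [sub_add_cancel, pow_one, h, one_pow, hr0] at hq
  simp only [zero_mul, add_zero] at hq
  exact add_eq_right.mp hq.symm

/-- An element of odd prime order different from the characteristic with a unipotent-type identity is
trivial. -/
theorem eq_one_of_unipotent {r ϖ : ℕ} (hr : r.Prime) (hϖ : ϖ.Prime) (hne : ϖ ≠ r) (h2 : ϖ ≠ 2)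
    (hr0 : (r : E) = 0) (T T' : E) (hT : T ^ ϖ = 1) (hTT' : T * T' = 1) (hT'T : T' * T = 1)
    (h : (T' - 1) * (T - T') * (T - 1) = 0) : T = 1 := by
  have ha : T * (T' - 1) = 1 - T := by rw [mul_sub, hTT', mul_one]
  have hb : T * (T - T') = T * T - 1 := by rw [mul_sub, hTT']
  have hc : T * (T' - 1) = (T' - 1) * T := by rw [ha, sub_mul, hT'T, one_mul]
  have h1 : (1 - T) * (T * T - 1) * (T - 1) = 0 := by
    rw [← ha, ← hb]
    calc T * (T' - 1) * (T * (T - T')) * (T - 1)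
        = T * ((T' - 1) * T) * (T - T') * (T - 1) := by simp only [mul_assoc]
      _ = T * (T * (T' - 1)) * (T - T') * (T - 1) := by rw [hc]
      _ = T * T * ((T' - 1) * (T - T') * (T - 1)) := by simp only [mul_assoc]
      _ = 0 := by rw [h, mul_zero]
  have h3 : (T * T - 1) ^ 3 = 0 := by
    have e : (T * T - 1) ^ 3 = -((1 - T) * (T * T - 1) * (T - 1)) * ((T + 1) * (T + 1)) := by
      simp only [pow_succ, pow_zero, one_mul]
      noncomm_ring
    rw [e, h1, neg_zero, zero_mul]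
  have h4 : (T * T - 1) ^ (r ^ 2) = 0 :=
    pow_eq_zero_of_le (by have := hr.two_le; nlinarith) h3
  have h5 := pow_prime_pow_eq_one hr hr0 (T * T) 2 h4
  rw [← pow_two, ← pow_mul] at h5
  have hcop : Nat.Coprime (2 * r ^ 2) ϖ :=
    Nat.Coprime.mul_left ((Nat.coprime_primes Nat.prime_two hϖ).mpr (Ne.symm h2))
      (Nat.Coprime.pow_left 2 ((Nat.coprime_primes hr hϖ).mpr (Ne.symm hne)))
  have h6 := pow_gcd_eq_one.mpr ⟨h5, hT⟩
  rwa [hcop.gcd_eq_one, pow_one] at h6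

end Ring

/-- The standing hypotheses. -/
structure Ctx (R : Subgroup GLn) (g : GLn) (r ϖ : ℕ) : Prop where
  hn : 0 < n
  hr : r.Prime
  hϖ : ϖ.Prime
  comm : ∀ a ∈ R, ∀ b ∈ R, ⁅a, b⁆ ∈ Cfsg.Geo.scalars (Fin n) F ∧ ⁅a, b⁆ ^ r = 1
  schur : ∀ a : GLn, (∀ b ∈ R, a * b = b * a) → a ∈ Cfsg.Geo.scalars (Fin n) F
  norm : ∀ a ∈ R ⊔ Cfsg.Geo.scalars (Fin n) F,
    g * a * g⁻¹ ∈ R ⊔ Cfsg.Geo.scalars (Fin n) F ∧ g⁻¹ * a * g ∈ R ⊔ Cfsg.Geo.scalars (Fin n) F
  order : g ^ ϖ = 1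
  notScalar : g ∉ Cfsg.Geo.scalars (Fin n) F

namespace Ctx

variable {R : Subgroup (Matrix.GeneralLinearGroup (Fin n) F)} {g : Matrix.GeneralLinearGroup (Fin n) F} {r ϖ : ℕ}

local notation "Sc" => Cfsg.Geo.scalars (Fin n) F

instance scalars_normal : (Cfsg.Geo.scalars (Fin n) F).Normal :=
  ⟨fun s hs x => by rw [← scalar_comm hs x]; simpa using hs⟩

theorem exists_split {a : GLn} (ha : a ∈ R ⊔ Sc) : ∃ x ∈ R, ∃ s ∈ Sc, x * s = a :=
  Subgroup.mem_sup_of_normal_right.mp ha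

theorem commutator_scalar {s t : GLn} (hs : s ∈ Sc) (ht : t ∈ Sc) (x y : GLn) :
    ⁅x * s, y * t⁆ = ⁅x, y⁆ := by
  simp only [commutatorElement_def, mul_inv_rev]
  have h1 : ∀ w, s * w = w * s := scalar_comm hs
  have h2 : ∀ w, t * w = w * t := scalar_comm ht
  calc x * s * (y * t) * (s⁻¹ * x⁻¹) * (t⁻¹ * y⁻¹)
      = x * (s * (y * t)) * s⁻¹ * (x⁻¹ * t⁻¹) * y⁻¹ := by simp only [mul_assoc]
    _ = x * (y * t * s) * s⁻¹ * (x⁻¹ * t⁻¹) * y⁻¹ := by rw [h1]
    _ = x * y * (t * x⁻¹) * t⁻¹ * y⁻¹ := by group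
    _ = x * y * (x⁻¹ * t) * t⁻¹ * y⁻¹ := by rw [h2]
    _ = x * y * x⁻¹ * y⁻¹ := by group

variable (C : Ctx R g r ϖ)
include C

theorem commSup {a b : GLn} (ha : a ∈ R ⊔ Sc) (hb : b ∈ R ⊔ Sc) :
    ⁅a, b⁆ ∈ Sc ∧ ⁅a, b⁆ ^ r = 1 := by
  obtain ⟨x, hx, s, hs, rfl⟩ := exists_split ha
  obtain ⟨y, hy, t, ht, rfl⟩ := exists_split hb
  rw [commutator_scalar hs ht]
  exact C.comm x hx y hy

theorem mul_comm_left {a b c : GLn} (hb : b ∈ R ⊔ Sc) (hc : c ∈ R ⊔ Sc) :
    ⁅a * b, c⁆ = ⁅a, c⁆ * ⁅b, c⁆ := by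
  have hs := (C.commSup hb hc).1
  have e : ⁅a * b, c⁆ = a * ⁅b, c⁆ * a⁻¹ * ⁅a, c⁆ := by simp only [commutatorElement_def]; group
  rw [e, ← scalar_comm hs a, mul_assoc ⁅b, c⁆, mul_inv_cancel, mul_one, scalar_comm hs]

theorem inv_comm_left {a c : GLn} (ha : a ∈ R ⊔ Sc) (hc : c ∈ R ⊔ Sc) :
    ⁅a⁻¹, c⁆ = ⁅a, c⁆⁻¹ := by
  apply eq_inv_of_mul_eq_one_right
  rw [← C.mul_comm_left (inv_mem ha) hc, mul_inv_cancel, commutatorElement_one_left]

theorem mem_of_comm {a : GLn} (ha : a ∈ R ⊔ Sc) (h : ∀ b ∈ R ⊔ Sc, ⁅a, b⁆ = 1) : a ∈ Sc :=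
  C.schur a fun b hb => commutatorElement_eq_one_iff_mul_comm.mp (h b (Subgroup.mem_sup_left hb))

theorem exists_partner {a : GLn} (hns : a ∉ Sc) : ∃ u ∈ R, ⁅a, u⁆ ≠ 1 := by
  by_contra hc
  push_neg at hc
  exact hns (C.schur a fun b hb => commutatorElement_eq_one_iff_mul_comm.mp (hc b hb))

theorem pow_mem {a : GLn} (ha : a ∈ R ⊔ Sc) : a ^ r ∈ Sc := by
  refine C.mem_of_comm (_root_.pow_mem ha r) fun b hb => ?_
  have h : ∀ i : ℕ, ⁅a ^ i, b⁆ = ⁅a, b⁆ ^ i := by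
    intro i
    induction i with
    | zero => simp
    | succ i ih => rw [pow_succ, C.mul_comm_left ha hb, ih, pow_succ]
  rw [h, (C.commSup ha hb).2]

theorem delta_mem {x : GLn} (hx : x ∈ R ⊔ Sc) : x⁻¹ * g * x * g⁻¹ ∈ R ⊔ Sc := by
  rw [mul_assoc, mul_assoc, ← mul_assoc g]
  exact mul_mem (inv_mem hx) (C.norm x hx).1

/-- A rule `a b = κ b a` from a non-trivial commutator. -/
theorem rule {a b : GLn} (ha : a ∈ R ⊔ Sc) (hb : b ∈ R ⊔ Sc) :
    ∃ κ : F, κ ^ r = 1 ∧ ev a * ev b = κ • (ev b * ev a) ∧ (κ = 1 → ⁅a, b⁆ = 1) :=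
  exists_rule (C.commSup ha hb).1 (C.commSup ha hb).2
    (by rw [commutatorElement_def]; group) C.hn

theorem partner_rule {a : GLn} (ha : a ∈ R ⊔ Sc) (hns : a ∉ Sc) :
    ∃ (u : GLn) (ζ : F), IsPrimitiveRoot ζ r ∧ (r : F) ≠ 0 ∧ ev a * ev u = ζ • (ev u * ev a) := by
  obtain ⟨u, hu, hne⟩ := C.exists_partner hns
  obtain ⟨κ, h1, h2, h3⟩ := C.rule ha (Subgroup.mem_sup_left hu)
  have hκ : κ ≠ 1 := fun h => hne (h3 h)
  exact ⟨u, κ, isPrimitiveRoot_of C.hr h1 hκ, natCast_ne_zero_of C.hr h1 hκ, h2⟩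

/-- The eigenspace of `a` for a non-zero value is small. -/
theorem mul_eigen_le {a : GLn} (ha : a ∈ R ⊔ Sc) (hns : a ∉ Sc) {b : F} (hb : b ≠ 0) :
    r * finrank F ↥(End.eigenspace (ev a) b) ≤ n := by
  obtain ⟨u, ζ, hζ, -, h⟩ := C.partner_rule ha hns
  have h1 := mul_finrank_le_top (ev a) (ev u) (ev_apply_injective u) hζ
    (fun v => by rw [← End.mul_apply, h, LinearMap.smul_apply, End.mul_apply]) hb
  rwa [Module.finrank_pi, Fintype.card_fin] at h1

/-- `g` moves some element of `R` by a non-trivial scalar only: its eigenspaces are small. -/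
theorem bound_shift (x : GLn) {s : GLn} (hs : s ∈ Sc) (hsr : s ^ r = 1) (hs1 : s ≠ 1)
    (h : g * x = s * (x * g)) {c : F} (hc : c ≠ 0) :
    r * finrank F ↥(End.eigenspace (ev g) c) ≤ n := by
  obtain ⟨κ, h1, h2, h3⟩ := exists_rule hs hsr h C.hn
  have h4 := mul_finrank_le_top (ev g) (ev x) (ev_apply_injective x)
    (isPrimitiveRoot_of C.hr h1 fun hh => hs1 (h3 hh))
    (fun v => by rw [← End.mul_apply, h2, LinearMap.smul_apply, End.mul_apply]) hc
  rwa [Module.finrank_pi, Fintype.card_fin] at h4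

/-- When `g` acts trivially modulo scalars. -/
theorem bound_inner (h : ∀ x ∈ R, ⁅g, x⁆ ∈ Sc) {c : F} (hc : c ≠ 0) :
    r * finrank F ↥(End.eigenspace (ev g) c) ≤ n := by
  have : ∃ x ∈ R, ⁅g, x⁆ ≠ 1 := by
    by_contra hh
    push_neg at hh
    exact C.notScalar (C.schur g fun b hb => commutatorElement_eq_one_iff_mul_comm.mp (hh b hb))
  obtain ⟨x, hx, hne⟩ := this
  have e : g * x = ⁅g, x⁆ * (x * g) := by rw [commutatorElement_def]; group
  refine C.bound_shift x (h x hx) ?_ hne e hc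
  have hcm : Commute ⁅g, x⁆ x := scalar_comm (h x hx) x
  have h1 : (⁅g, x⁆ * x) ^ r = ⁅g, x⁆ ^ r * x ^ r := hcm.mul_pow r
  have h2 : ⁅g, x⁆ * x = g * x * g⁻¹ := by rw [commutatorElement_def]; group
  have h4 := scalar_comm (C.pow_mem (Subgroup.mem_sup_left hx)) g
  rw [h2, conj_pow, ← h4, mul_inv_cancel_right] at h1
  exact mul_eq_right.mp h1.symm

/-- The general bound. -/
theorem bound_general {x : GLn} (hx : x ∈ R ⊔ Sc) (hy : x⁻¹ * g * x * g⁻¹ ∉ Sc) {c : F} (hc : c ≠ 0) :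
    r * (2 * finrank F ↥(End.eigenspace (ev g) c)) ≤ (r + 1) * n := by
  set y := x⁻¹ * g * x * g⁻¹ with hydef
  set W := End.eigenspace (ev g) c with hW
  set W2 := W.map (ev x⁻¹) with hW2
  have hrank : finrank F W2 = finrank F W :=
    (Submodule.equivMapOfInjective _ (ev_apply_injective x⁻¹) W).finrank_eq.symm
  have hfix : W ⊓ W2 ≤ End.eigenspace (ev y) 1 := by
    rintro v ⟨hv, hv2⟩
    obtain ⟨w, hw, rfl⟩ := hv2
    rw [End.mem_eigenspace_iff, one_smul]
    have hw' := End.mem_eigenspace_iff.mp hw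
    have hv' := End.mem_eigenspace_iff.mp hv
    apply smul_right_injective Vn hc
    show c • _ = c • _
    rw [← map_smul, ← hv', hydef, ← End.mul_apply, ← map_mul,
      show x⁻¹ * g * x * g⁻¹ * g = x⁻¹ * g * x by group, ← End.mul_apply, ← map_mul,
      show x⁻¹ * g * x * x⁻¹ = x⁻¹ * g by group, map_mul, End.mul_apply, hw', map_smul, hv']
  have h1 := Submodule.finrank_sup_add_finrank_inf_eq W W2
  have h2 : finrank F ↥(W ⊔ W2) ≤ n := by
    simpa using Submodule.finrank_le (W ⊔ W2)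
  have h3 := C.mul_eigen_le (C.delta_mem hx) hy (one_ne_zero (α := F))
  have h4 := Submodule.finrank_mono hfix
  rw [hrank] at h1
  rw [← hydef] at h3
  nlinarith

/-- The bound when `x⁻¹ g x g⁻¹` does not commute with its conjugate by `g`. -/
theorem bound_half {x : GLn} (hx : x ∈ R ⊔ Sc)
    (hy : ⁅x⁻¹ * g * x * g⁻¹, g * (x⁻¹ * g * x * g⁻¹) * g⁻¹⁆ ≠ 1) {c : F} (hc : c ≠ 0) :
    2 * finrank F ↥(End.eigenspace (ev g) c) ≤ n := by
  set y := x⁻¹ * g * x * g⁻¹ with hydef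
  set W := End.eigenspace (ev g) c with hW
  set W2 := W.map (ev x⁻¹) with hW2
  have hymem := C.delta_mem hx
  obtain ⟨κ, -, h2, h3⟩ := C.rule hymem (C.norm y hymem).1
  have hκ : κ ≠ 1 := fun h => hy (h3 h)
  have hrank : finrank F W2 = finrank F W :=
    (Submodule.equivMapOfInjective _ (ev_apply_injective x⁻¹) W).finrank_eq.symm
  have hzero : W ⊓ W2 = ⊥ := by
    rw [eq_bot_iff]
    rintro v ⟨hv, hv2⟩
    obtain ⟨w, hw, rfl⟩ := hv2
    have hw' := End.mem_eigenspace_iff.mp hw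
    have hv' := End.mem_eigenspace_iff.mp hv
    set v := ev x⁻¹ w with hvdef
    have hyv : ev y v = v := by
      apply smul_right_injective Vn hc
      show c • _ = c • _
      rw [← map_smul, ← hv', hydef, ← End.mul_apply, ← map_mul,
        show x⁻¹ * g * x * g⁻¹ * g = x⁻¹ * g * x by group, hvdef, ← End.mul_apply, ← map_mul,
        show x⁻¹ * g * x * x⁻¹ = x⁻¹ * g by group, map_mul, End.mul_apply, hw', map_smul,
        ← hvdef, hv']
    have hy1v : ev (g * y * g⁻¹) v = v := by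
      apply smul_right_injective Vn hc
      show c • _ = c • _
      rw [← map_smul, ← hv', ← End.mul_apply, ← map_mul,
        show g * y * g⁻¹ * g = g * y by group, map_mul, End.mul_apply, hyv]
    have h5 : (ev y * ev (g * y * g⁻¹)) v = (κ • (ev (g * y * g⁻¹) * ev y)) v := by rw [h2]
    rw [End.mul_apply, hy1v, hyv, LinearMap.smul_apply, End.mul_apply, hyv, hy1v] at h5
    rw [Submodule.mem_bot]
    have h6 : (κ - 1) • v = 0 := by rw [sub_smul, one_smul, ← h5, sub_self]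
    exact (smul_eq_zero.mp h6).resolve_left (sub_ne_zero.mpr hκ)
  have h1 := Submodule.finrank_sup_add_finrank_inf_eq W W2
  have h2' : finrank F ↥(W ⊔ W2) ≤ n := by
    simpa using Submodule.finrank_le (W ⊔ W2)
  rw [hzero, finrank_bot, hrank] at h1
  omega

/-- The bound when `g y g⁻¹ ≡ y` for `y = x⁻¹ g x g⁻¹` and `g` has order `r`. -/
theorem bound_transvection (hϖr : ϖ = r) (hr5 : 5 ≤ r) {x : GLn} (hx : x ∈ R ⊔ Sc)
    (hy : x⁻¹ * g * x * g⁻¹ ∉ Sc) (hy2 : ⁅g, x⁻¹ * g * x * g⁻¹⁆ ∈ Sc) {c : F} (hc : c ≠ 0) :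
    2 * finrank F ↥(End.eigenspace (ev g) c) ≤ n := by
  set y := x⁻¹ * g * x * g⁻¹ with hydef
  have hymem := C.delta_mem hx
  have hgr : g ^ r = 1 := hϖr ▸ C.order
  by_cases hcomm : ⁅g, y⁆ = 1
  · have hgy : g * y = y * g := commutatorElement_eq_one_iff_mul_comm.mp hcomm
    have hgx : g * x = x * y * g := by rw [hydef]; group
    have hi : ∀ i : ℕ, g ^ i * x = x * y ^ i * g ^ i := by
      intro i
      induction i with
      | zero => simp
      | succ i ih =>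
        have hgc : g * y ^ i = y ^ i * g := (Commute.pow_right hgy i).eq
        calc g ^ (i + 1) * x = g * (g ^ i * x) := by rw [pow_succ', mul_assoc]
          _ = g * x * y ^ i * g ^ i := by rw [ih]; simp only [mul_assoc]
          _ = x * y * (g * y ^ i) * g ^ i := by rw [hgx]; simp only [mul_assoc]
          _ = x * y ^ (i + 1) * g ^ (i + 1) := by
            rw [hgc, pow_succ', pow_succ' g]; simp only [mul_assoc]
    have hyr : y ^ r = 1 := by
      have h := hi r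
      rw [hgr, one_mul, mul_one] at h
      exact mul_eq_left.mp h.symm
    obtain ⟨u, ζ, hζ, hrF, hu⟩ := C.partner_rule hymem hy
    obtain ⟨κ, hκ, hyx, -⟩ := C.rule hymem hx
    have h := two_mul_finrank_le_of_transvection (ev g) (ev x) (ev y) (ev u) C.hr hr5
      (ev_apply_injective x) (ev_apply_injective u) hζ hrF (by rw [← map_pow, hyr, map_one])
      (by rw [← map_mul, ← map_mul, hgy]) (by rw [← map_mul, ← map_mul, ← map_mul, hgx]) hκ hyx hu hc
    rwa [Module.finrank_pi, Fintype.card_fin] at h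
  · have e : g * y = ⁅g, y⁆ * (y * g) := by rw [commutatorElement_def]; group
    have hi : ∀ i : ℕ, g ^ i * y = ⁅g, y⁆ ^ i * (y * g ^ i) := by
      intro i
      induction i with
      | zero => simp
      | succ i ih =>
        have hsg : g * ⁅g, y⁆ ^ i = ⁅g, y⁆ ^ i * g :=
          (Commute.pow_right (scalar_comm hy2 g).symm i).eq
        calc g ^ (i + 1) * y = g * (g ^ i * y) := by rw [pow_succ', mul_assoc]
          _ = g * ⁅g, y⁆ ^ i * (y * g ^ i) := by rw [ih]; simp only [mul_assoc]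
          _ = ⁅g, y⁆ ^ i * (g * y) * g ^ i := by rw [hsg]; simp only [mul_assoc]
          _ = ⁅g, y⁆ ^ (i + 1) * (y * g ^ (i + 1)) := by
            rw [e, pow_succ ⁅g, y⁆ i, pow_succ' g]; simp only [mul_assoc]
    have hsr : ⁅g, y⁆ ^ r = 1 := by
      have h := hi r
      rw [hgr, one_mul, mul_one] at h
      exact mul_eq_right.mp h.symm
    have h := C.bound_shift y hy2 hsr hcomm e hc
    have := C.hr.two_le
    nlinarith

/-- The quotient `(R ⊔ scalars) / scalars` seen additively, with the action of `g`. -/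
theorem quotient_facts :
    (∀ a ∈ R ⊔ Sc, ∀ b ∈ R ⊔ Sc, (QuotientGroup.mk a : GLn ⧸ Sc) * QuotientGroup.mk b =
      QuotientGroup.mk b * QuotientGroup.mk a) := by
  intro a ha b hb
  have h : (QuotientGroup.mk ⁅a, b⁆ : GLn ⧸ Sc) = 1 :=
    (QuotientGroup.eq_one_iff _).mpr (C.commSup ha hb).1
  rw [← QuotientGroup.mk_mul, ← QuotientGroup.mk_mul,
    show a * b = ⁅a, b⁆ * (b * a) by rw [commutatorElement_def]; group, QuotientGroup.mk_mul, h, one_mul]

/-- Powers of the action and of its difference from the identity, element by element. -/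
theorem coprime_or_unipotent :
    (ϖ ≠ r → ϖ ≠ 2 → (∀ x ∈ R ⊔ Sc, ⁅x⁻¹ * g * x * g⁻¹, g * (x⁻¹ * g * x * g⁻¹) * g⁻¹⁆ = 1) →
      ∀ x ∈ R, ⁅g, x⁆ ∈ Sc) ∧
    (ϖ = r → (∃ x ∈ R, ⁅g, x⁆ ∉ Sc) →
      ∃ x ∈ R ⊔ Sc, x⁻¹ * g * x * g⁻¹ ∉ Sc ∧ ⁅g, x⁻¹ * g * x * g⁻¹⁆ ∈ Sc) := by
  classical
  let π : GLn →* GLn ⧸ Sc := QuotientGroup.mk' Sc
  let P : Subgroup (GLn ⧸ Sc) := (R ⊔ Sc).map π
  letI : CommGroup P :=
    { (inferInstance : Group P) with
      mul_comm := by
        rintro ⟨_, a, ha, rfl⟩ ⟨_, b, hb, rfl⟩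
        exact Subtype.ext (C.quotient_facts a ha b hb) }
  let conjP : ∀ h : GLn, (∀ a ∈ R ⊔ Sc, h * a * h⁻¹ ∈ R ⊔ Sc) → (↥P →* ↥P) := fun h hh =>
    { toFun := fun v => ⟨π h * v.1 * (π h)⁻¹, by
        obtain ⟨a, ha, e⟩ := v.2
        exact ⟨h * a * h⁻¹, hh a ha, by rw [← e]; simp only [map_mul, map_inv]⟩⟩
      map_one' := Subtype.ext (by simp)
      map_mul' := fun v w => Subtype.ext (by simp only [Subgroup.coe_mul]; group) }
  let T : AddMonoid.End (Additive ↥P) :=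
    MonoidHom.toAdditive (conjP g fun a ha => (C.norm a ha).1)
  let T' : AddMonoid.End (Additive ↥P) :=
    MonoidHom.toAdditive (conjP g⁻¹ fun a ha => by rw [inv_inv]; exact (C.norm a ha).2)
  -- a lift of vectors
  let el : ∀ a ∈ R ⊔ Sc, Additive ↥P := fun a ha => Additive.ofMul ⟨π a, a, ha, rfl⟩
  have hsurj : ∀ v : Additive ↥P, ∃ a, ∃ ha : a ∈ R ⊔ Sc, el a ha = v := by
    intro v
    obtain ⟨a, ha, e⟩ := (Additive.toMul v).2
    exact ⟨a, ha, Additive.toMul.injective (Subtype.ext e)⟩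
  have heq : ∀ a ha b hb, el a ha = el b hb ↔ (π a = π b) := by
    intro a ha b hb
    exact ⟨fun h => congrArg (fun w => (Additive.toMul w).1) h,
      fun h => Additive.toMul.injective (Subtype.ext h)⟩
  have helzero : ∀ a ha, el a ha = 0 ↔ a ∈ Sc := by
    intro a ha
    rw [← QuotientGroup.eq_one_iff a]
    exact ⟨fun h => congrArg (fun w => (Additive.toMul w).1) h,
      fun h => Additive.toMul.injective (Subtype.ext h)⟩
  have hT : ∀ a ha, T (el a ha) = el (g * a * g⁻¹) (C.norm a ha).1 := by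
    intro a ha
    exact Additive.toMul.injective (Subtype.ext (by
      show π g * π a * (π g)⁻¹ = π (g * a * g⁻¹)
      rw [map_mul, map_mul, map_inv]))
  have hT' : ∀ a ha, T' (el a ha) = el (g⁻¹ * a * g) (C.norm a ha).2 := by
    intro a ha
    exact Additive.toMul.injective (Subtype.ext (by
      show π g⁻¹ * π a * (π g⁻¹)⁻¹ = π (g⁻¹ * a * g)
      rw [map_mul, map_mul, map_inv, inv_inv]))
  have hsub : ∀ a ha b hb, el a ha - el b hb = el (a * b⁻¹) (mul_mem ha (inv_mem hb)) := by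
    intro a ha b hb
    rw [sub_eq_add_neg]
    exact Additive.toMul.injective (Subtype.ext (by
      show π a * (π b)⁻¹ = π (a * b⁻¹)
      rw [map_mul, map_inv]))
  have hr0 : ((r : ℕ) : AddMonoid.End (Additive ↥P)) = 0 := by
    refine DFunLike.ext _ _ fun v => ?_
    obtain ⟨a, ha, rfl⟩ := hsurj v
    rw [AddMonoid.End.natCast_apply]
    exact Additive.toMul.injective (Subtype.ext (by
      show (π a) ^ r = 1
      rw [← map_pow]
      exact (QuotientGroup.eq_one_iff _).mpr (C.pow_mem ha)))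
  have hTϖ : T ^ ϖ = 1 := by
    have hpow : ∀ i : ℕ, ∀ v : Additive ↥P, (Additive.toMul ((T ^ i) v)).1 =
        π (g ^ i) * (Additive.toMul v).1 * (π (g ^ i))⁻¹ := by
      intro i
      induction i with
      | zero => intro v; simp
      | succ i ih =>
        intro v
        rw [pow_succ']
        show π g * (Additive.toMul ((T ^ i) v)).1 * (π g)⁻¹ = _
        rw [ih, pow_succ' g, map_mul]
        group
    refine DFunLike.ext _ _ fun v => ?_
    refine Additive.toMul.injective (Subtype.ext ?_)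
    rw [hpow, C.order]
    simp
  have hTT' : T * T' = 1 := by
    refine DFunLike.ext _ _ fun v => ?_
    obtain ⟨a, ha, rfl⟩ := hsurj v
    show T (T' (el a ha)) = el a ha
    rw [hT' a ha, hT _ (C.norm a ha).2]
    refine (heq _ (C.norm _ (C.norm a ha).2).1 _ ha).mpr ?_
    congr 1
    group
  have hT'T : T' * T = 1 := by
    refine DFunLike.ext _ _ fun v => ?_
    obtain ⟨a, ha, rfl⟩ := hsurj v
    show T' (T (el a ha)) = el a ha
    rw [hT a ha, hT' _ (C.norm a ha).1]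
    refine (heq _ (C.norm _ (C.norm a ha).1).2 _ ha).mpr ?_
    congr 1
    group
  -- the map `T - 1` on lifts
  have hD : ∀ a ha, (T - 1) (el a ha) =
      el (g * a * g⁻¹ * a⁻¹) (mul_mem (C.norm a ha).1 (inv_mem ha)) := by
    intro a ha
    rw [← hsub _ (C.norm a ha).1 a ha, ← hT a ha]
    rfl
  refine ⟨fun hne hne2 hcm x hx => ?_, fun hϖr hex => ?_⟩
  · -- `δ a = g a g⁻¹ a⁻¹`
    let δ : GLn → GLn := fun a => g * a * g⁻¹ * a⁻¹
    have hδ : ∀ a ∈ R ⊔ Sc, δ a ∈ R ⊔ Sc := fun a ha => mul_mem (C.norm a ha).1 (inv_mem ha)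
    have hTmem : ∀ a ∈ R ⊔ Sc, g * a * g⁻¹ ∈ R ⊔ Sc := fun a ha => (C.norm a ha).1
    have hcinv : ∀ a b : GLn, a ∈ R ⊔ Sc → b ∈ R ⊔ Sc → ⁅g * a * g⁻¹, g * b * g⁻¹⁆ = ⁅a, b⁆ := by
      intro a b ha hb
      have : ⁅g * a * g⁻¹, g * b * g⁻¹⁆ = g * ⁅a, b⁆ * g⁻¹ := by
        simp only [commutatorElement_def]; group
      rw [this, ← scalar_comm (C.commSup ha hb).1 g, mul_inv_cancel_right]
    -- the hypothesis in the form `[δ a, T δ a] = 1`
    have hq : ∀ a ∈ R ⊔ Sc, ⁅δ a, g * δ a * g⁻¹⁆ = 1 := by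
      intro a ha
      have hs := (C.commSup (inv_mem ha) (hTmem a ha)).1
      have e : a⁻¹ * g * a * g⁻¹ = δ a * ⁅a⁻¹, g * a * g⁻¹⁆ := by
        rw [← scalar_comm hs]
        simp only [δ, commutatorElement_def]
        group
      have h := hcm a ha
      rw [e] at h
      have e2 : g * (δ a * ⁅a⁻¹, g * a * g⁻¹⁆) * g⁻¹ = g * δ a * g⁻¹ * ⁅a⁻¹, g * a * g⁻¹⁆ := by
        rw [mul_assoc g, mul_assoc (δ a), scalar_comm hs g⁻¹]
        group
      rw [e2, commutator_scalar hs hs] at h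
      exact h
    -- polarisation
    have hmul_right : ∀ {a b c : GLn}, a ∈ R ⊔ Sc → b ∈ R ⊔ Sc → c ∈ R ⊔ Sc →
        ⁅a, b * c⁆ = ⁅a, b⁆ * ⁅a, c⁆ := by
      intro a b c ha hb hc
      rw [← commutatorElement_inv, C.mul_comm_left hc ha, mul_inv_rev, commutatorElement_inv,
        commutatorElement_inv, scalar_comm (C.commSup ha hc).1]
    have hpol : ∀ a ∈ R ⊔ Sc, ∀ b ∈ R ⊔ Sc,
        ⁅δ a, g * δ b * g⁻¹⁆ * ⁅δ b, g * δ a * g⁻¹⁆ = 1 := by
      intro a ha b hb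
      have hab := mul_mem ha hb
      obtain ⟨s, hs, e⟩ : ∃ s ∈ Sc, δ (a * b) = δ a * δ b * s := by
        refine ⟨(δ a * δ b)⁻¹ * δ (a * b), ?_, by group⟩
        rw [← QuotientGroup.eq]
        have c1 := C.quotient_facts _ (inv_mem ha) _ (hTmem b hb)
        have c2 := C.quotient_facts _ (inv_mem ha) _ (inv_mem hb)
        simp only [δ, mul_inv_rev, QuotientGroup.mk_mul, QuotientGroup.mk_inv, inv_inv] at c1 c2 ⊢
        have key : ∀ {Q : Type _} [Group Q] (G A B : Q), A⁻¹ * (G * B * G⁻¹) = G * B * G⁻¹ * A⁻¹ →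
            A⁻¹ * B⁻¹ = B⁻¹ * A⁻¹ →
            G * A * G⁻¹ * A⁻¹ * (G * B * G⁻¹ * B⁻¹) = G * (A * B) * G⁻¹ * (B⁻¹ * A⁻¹) := by
          intro Q _ G A B k1 k2
          calc G * A * G⁻¹ * A⁻¹ * (G * B * G⁻¹ * B⁻¹)
              = G * A * G⁻¹ * (A⁻¹ * (G * B * G⁻¹)) * B⁻¹ := by group
            _ = G * A * G⁻¹ * (G * B * G⁻¹ * A⁻¹) * B⁻¹ := by rw [k1]
            _ = G * (A * B) * G⁻¹ * (A⁻¹ * B⁻¹) := by group
            _ = _ := by rw [k2]
        exact key _ _ _ c1 c2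
      have h := hq (a * b) hab
      rw [e] at h
      have e2 : g * (δ a * δ b * s) * g⁻¹ = g * δ a * g⁻¹ * (g * δ b * g⁻¹) * s := by
        rw [mul_assoc g, mul_assoc (δ a * δ b), scalar_comm hs g⁻¹]
        group
      rw [e2, commutator_scalar hs hs, C.mul_comm_left (hδ b hb)
          (mul_mem (hTmem _ (hδ a ha)) (hTmem _ (hδ b hb))),
        hmul_right (hδ a ha) (hTmem _ (hδ a ha)) (hTmem _ (hδ b hb)),
        hmul_right (hδ b hb) (hTmem _ (hδ a ha)) (hTmem _ (hδ b hb)), hq a ha, hq b hb,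
        one_mul, mul_one] at h
      exact h
    -- the identity in the ring of endomorphisms
    have hid : (T' - 1) * (T - T') * (T - 1) = 0 := by
      refine DFunLike.ext _ _ fun v => ?_
      obtain ⟨a, ha, rfl⟩ := hsurj v
      show (T' - 1) ((T - T') ((T - 1) (el a ha))) = 0
      rw [hD a ha]
      have hd := hδ a ha
      show T' (T (el (δ a) hd) - T' (el (δ a) hd)) - (T (el (δ a) hd) - T' (el (δ a) hd)) = 0
      rw [hT _ hd, hT' _ hd, hsub _ (C.norm _ hd).1 _ (C.norm _ hd).2,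
        hT' _ (mul_mem (C.norm _ hd).1 (inv_mem (C.norm _ hd).2)),
        hsub _ (C.norm _ (mul_mem (C.norm _ hd).1 (inv_mem (C.norm _ hd).2))).2
          _ (mul_mem (C.norm _ hd).1 (inv_mem (C.norm _ hd).2))]
      have hqm0 : g * δ a * g⁻¹ * (g⁻¹ * δ a * g)⁻¹ ∈ R ⊔ Sc :=
        mul_mem (C.norm _ hd).1 (inv_mem (C.norm _ hd).2)
      refine (helzero _ (mul_mem (C.norm _ hqm0).2 (inv_mem hqm0))).mpr ?_
      set q := g * δ a * g⁻¹ * (g⁻¹ * δ a * g)⁻¹ with hqdef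
      have hqm : q ∈ R ⊔ Sc := mul_mem (C.norm _ hd).1 (inv_mem (C.norm _ hd).2)
      have hq'm := (C.norm q hqm).2
      refine C.mem_of_comm (mul_mem hq'm (inv_mem hqm)) fun b hb => ?_
      have key : ⁅δ b, q⁆ = 1 := by
        have h := hpol b hb a ha
        rw [hqdef, hmul_right (hδ b hb) (C.norm _ hd).1 (inv_mem (C.norm _ hd).2)]
        have e : ⁅δ b, (g⁻¹ * δ a * g)⁻¹⁆ = ⁅δ a, g * δ b * g⁻¹⁆ := by
          rw [← hcinv _ _ (hδ b hb) (inv_mem (C.norm _ hd).2),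
            show g * (g⁻¹ * δ a * g)⁻¹ * g⁻¹ = (δ a)⁻¹ by group, ← commutatorElement_inv,
            C.inv_comm_left hd (hTmem _ (hδ b hb)), inv_inv]
        rw [e]
        exact h
      rw [C.mul_comm_left (inv_mem hqm) hb, C.inv_comm_left hqm hb,
        ← hcinv (g⁻¹ * q * g) b hq'm hb, show g * (g⁻¹ * q * g) * g⁻¹ = q by group]
      have e2 : ⁅δ b, q⁆ = ⁅g * b * g⁻¹, q⁆ * ⁅b, q⁆⁻¹ := by
        rw [← C.inv_comm_left hb hqm, ← C.mul_comm_left (inv_mem hb) hqm]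
      rw [key, eq_comm, mul_inv_eq_one] at e2
      rw [← commutatorElement_inv, ← commutatorElement_inv b q, e2, inv_inv, inv_mul_cancel]
    have hone := eq_one_of_unipotent C.hr C.hϖ hne hne2 hr0 T T' hTϖ hTT' hT'T hid
    have h : (T - 1) (el x (Subgroup.mem_sup_left hx)) = 0 := by rw [hone, sub_self]; rfl
    rw [hD x (Subgroup.mem_sup_left hx)] at h
    rw [commutatorElement_def]
    exact (helzero _ (mul_mem (C.norm x (Subgroup.mem_sup_left hx)).1 (inv_mem (Subgroup.mem_sup_left hx)))).mp h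
  · obtain ⟨x, hx, hns⟩ := hex
    have hT1 : T ^ r = 1 := hϖr ▸ hTϖ
    have hnil := sub_one_pow_eq_zero C.hr hr0 T hT1
    set v₀ := el x (Subgroup.mem_sup_left hx) with hv₀
    have h1 : (T - 1) v₀ ≠ 0 := by
      rw [hv₀, hD x (Subgroup.mem_sup_left hx)]
      rw [commutatorElement_def] at hns
      exact fun h => hns ((helzero _ (mul_mem (C.norm x (Subgroup.mem_sup_left hx)).1 (inv_mem (Subgroup.mem_sup_left hx)))).mp h)
    have hex' : ∃ i : ℕ, ((T - 1) ^ i) v₀ = 0 := ⟨r, by rw [hnil]; rfl⟩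
    have hi := Nat.find_spec hex'
    have hi2 : 2 ≤ Nat.find hex' := by
      by_contra hlt
      rcases (show Nat.find hex' = 0 ∨ Nat.find hex' = 1 by omega) with h | h
      · rw [h, pow_zero] at hi
        apply h1
        rw [show v₀ = 0 from hi, map_zero]
      · rw [h, pow_one] at hi
        exact h1 hi
    obtain ⟨i, hieq⟩ : ∃ i, Nat.find hex' = i + 2 := ⟨Nat.find hex' - 2, by omega⟩
    obtain ⟨a, ha, hav⟩ := hsurj (((T - 1) ^ i) v₀)
    have hn1 : (T - 1) (el a ha) ≠ 0 := by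
      rw [hav]
      intro h
      exact Nat.find_min hex' (by omega : i + 1 < Nat.find hex') (by rw [pow_succ']; exact h)
    have hn2 : (T - 1) ((T - 1) (el a ha)) = 0 := by
      rw [hav]
      rw [hieq, pow_succ', pow_succ'] at hi
      exact hi
    have hy := C.delta_mem ha
    have hπ : el (a⁻¹ * g * a * g⁻¹) hy =
        el (g * a * g⁻¹ * a⁻¹) (mul_mem (C.norm a ha).1 (inv_mem ha)) := by
      refine (heq _ hy _ (mul_mem (C.norm a ha).1 (inv_mem ha))).mpr ?_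
      have c := C.quotient_facts _ (inv_mem ha) _ (C.norm a ha).1
      rw [← QuotientGroup.mk_mul, ← QuotientGroup.mk_mul] at c
      rw [show a⁻¹ * g * a * g⁻¹ = a⁻¹ * (g * a * g⁻¹) by group]
      exact c
    refine ⟨a, ha, ?_, ?_⟩
    · rw [← helzero _ hy, hπ, ← hD a ha]
      exact hn1
    · rw [hD a ha, ← hπ, hD _ hy] at hn2
      rw [commutatorElement_def]
      exact (helzero _ (mul_mem (C.norm _ hy).1 (inv_mem hy))).mp hn2

/-- For `r = 3` and exponent `3`, the dimension is a multiple of `3`. -/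
theorem three_dvd (hr3 : r = 3) (hexp : ∀ a ∈ R, a ^ 3 = 1) (hex : ∃ a ∈ R, a ∉ Sc) : 3 ∣ n := by
  obtain ⟨a, ha, hns⟩ := hex
  have ha' : a ∈ R ⊔ Sc := Subgroup.mem_sup_left ha
  obtain ⟨u, ζ, hζ, hrF, -⟩ := C.partner_rule ha' hns
  subst hr3
  have h := finrank_le_sum_eigen (ev a) hζ hrF (by rw [← map_pow, hexp a ha, map_one]) ⊤
    (fun _ _ => Submodule.mem_top)
  rw [finrank_top, Module.finrank_pi, Fintype.card_fin] at h
  simp only [Finset.sum_range_succ, Finset.sum_range_zero] at h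
  have e : ∀ b : F, finrank F ↥(⊤ ⊓ End.eigenspace (ev a) b) =
      finrank F ↥(End.eigenspace (ev a) b) := fun b => by rw [top_inf_eq]
  rw [e, e, e] at h
  have h0 := C.mul_eigen_le ha' hns (pow_ne_zero 0 (hζ.ne_zero (by norm_num)))
  have h1 := C.mul_eigen_le ha' hns (pow_ne_zero 1 (hζ.ne_zero (by norm_num)))
  have h2 := C.mul_eigen_le ha' hns (pow_ne_zero 2 (hζ.ne_zero (by norm_num)))
  omega

/-- The bounds for all orders. -/
theorem bounds (hexp3 : r = 3 → ∀ a ∈ R, a ^ 3 = 1) {c : F} (hc : c ≠ 0) :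
    (ϖ = 2 → 4 * finrank F ↥(End.eigenspace (ev g) c) ≤ 3 * n) ∧
      (ϖ = 3 → 3 * finrank F ↥(End.eigenspace (ev g) c) ≤ 2 * n) ∧
      (3 < ϖ → 2 * finrank F ↥(End.eigenspace (ev g) c) ≤ n) ∧
      (ϖ = 3 → ¬ 3 ∣ n → 2 * finrank F ↥(End.eigenspace (ev g) c) ≤ n) := by
  have hr2 := C.hr.two_le
  set d := finrank F ↥(End.eigenspace (ev g) c) with hd
  by_cases hinner : ∀ x ∈ R, ⁅g, x⁆ ∈ Sc
  · have h := C.bound_inner hinner hc
    rw [← hd] at h
    have h2 : 2 * d ≤ n := le_trans (Nat.mul_le_mul_right d hr2) h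
    refine ⟨fun _ => ?_, fun _ => ?_, fun _ => h2, fun _ _ => h2⟩ <;> omega
  push_neg at hinner
  obtain ⟨x₀, hx₀, hx₀s⟩ := hinner
  have hx₀' : x₀ ∈ R ⊔ Sc := Subgroup.mem_sup_left hx₀
  have hy₀ : x₀⁻¹ * g * x₀ * g⁻¹ ∉ Sc := by
    intro h
    apply hx₀s
    have e : ⁅g, x₀⁆ = x₀ * (x₀⁻¹ * g * x₀ * g⁻¹) * x₀⁻¹ := by rw [commutatorElement_def]; group
    rw [e, ← scalar_comm h x₀, mul_inv_cancel_right]
    exact h
  have hgen := C.bound_general hx₀' hy₀ hc
  rw [← hd] at hgen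
  have hcop : ϖ ≠ r → ϖ ≠ 2 → 2 * d ≤ n := by
    intro hne hne2
    by_cases hall : ∀ x ∈ R ⊔ Sc, ⁅x⁻¹ * g * x * g⁻¹, g * (x⁻¹ * g * x * g⁻¹) * g⁻¹⁆ = 1
    · exact absurd (C.coprime_or_unipotent.1 hne hne2 hall x₀ hx₀) hx₀s
    · push_neg at hall
      obtain ⟨x, hx, hxn⟩ := hall
      exact C.bound_half hx hxn hc
  refine ⟨fun _ => ?_, fun h3 => ?_, fun hlt => ?_, fun h3 hdiv => ?_⟩
  · nlinarith
  · by_cases hr : r = 2
    · have := hcop (by omega) (by omega); omega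
    · have : 3 ≤ r := by omega
      nlinarith
  · by_cases hne : ϖ = r
    · have h4 : r ≠ 4 := fun h => by have := C.hr; rw [h] at this; norm_num at this
      obtain ⟨x, hx, h1, h2⟩ := C.coprime_or_unipotent.2 hne ⟨x₀, hx₀, hx₀s⟩
      exact C.bound_transvection hne (by omega) hx h1 h2 hc
    · exact hcop hne (by omega)
  · by_cases hne : ϖ = r
    · exfalso
      apply hdiv
      refine C.three_dvd (by omega) (hexp3 (by omega)) ?_
      by_contra hall
      push_neg at hall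
      apply hy₀
      have : R ⊔ Sc = Sc := sup_eq_right.mpr hall
      exact this ▸ C.delta_mem hx₀'
    · exact hcop hne (by omega)

end Ctx

end CfsgLib.EigBound
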